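import Cfsg.Agent.PLength.Basic
import Cfsg.Agent.Layer.PConstraint
import Cfsg.Agent.Core.FaithfulTI
import Cfsg.Agent.Coprime.Basic
import Cfsg.Agent.Core.Frattini

/-!
A `p`-element acting nontrivially on an abelian `p'`-group of operators has nonzero norm on the
module; the resulting bound of the `p`-length by the exponent.
-/

set_option autoImplicit false

namespace Cfsg.Agent.PLength

open Subgroup
open scoped Pointwise

universe u

section linear

variable {X : Type*} [Group X]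

theorem exists_eigenvalue_ne_one {k : Type*} [Field k] [IsAlgClosed k] {V : Type*} [AddCommGroup V]
    [Module k V] [FiniteDimensional k V] [Nontrivial V] (T : Module.End k V) {m : ℕ} (hm : (m : k) ≠ 0)
    (hT : T ^ m = 1) (hT1 : T ≠ 1) : ∃ c : k, c ≠ 1 ∧ T.HasEigenvalue c := by
  classical
  by_contra hall
  push Not at hall
  have hint := Algebra.IsIntegral.isIntegral (R := k) T
  have hdvd : minpoly k T ∣ Polynomial.X ^ m - Polynomial.C 1 := minpoly.dvd _ _ (by simp [hT])
  have hsep : (minpoly k T).Separable :=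
    (Polynomial.separable_X_pow_sub_C (1 : k) hm one_ne_zero).of_dvd hdvd
  have hroots : ∀ c ∈ (minpoly k T).roots, c = 1 := fun c hc => by
    by_contra h
    exact hall c h (Module.End.hasEigenvalue_of_isRoot ((Polynomial.mem_roots (minpoly.ne_zero hint)).1 hc))
  have hsp : (minpoly k T).Splits := IsAlgClosed.splits _
  have hcard : (minpoly k T).natDegree = Multiset.card (minpoly k T).roots := hsp.natDegree_eq_card_roots
  have hnd := Polynomial.nodup_roots hsep
  have hle : Multiset.card (minpoly k T).roots ≤ 1 := by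
    rw [← Multiset.toFinset_card_of_nodup hnd, Finset.card_le_one]
    intro a ha b hb
    rw [hroots a (Multiset.mem_toFinset.1 ha), hroots b (Multiset.mem_toFinset.1 hb)]
  have hpos := minpoly.natDegree_pos hint
  obtain ⟨c, hc⟩ : ∃ c, c ∈ (minpoly k T).roots := Multiset.card_pos_iff_exists_mem.1 (by omega)
  have heq : minpoly k T = Polynomial.X - Polynomial.C 1 := by
    refine (Polynomial.eq_of_monic_of_dvd_of_natDegree_le (Polynomial.monic_X_sub_C 1)
      (minpoly.monic hint) ?_ (by rw [Polynomial.natDegree_X_sub_C]; omega))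
    rw [Polynomial.dvd_iff_isRoot]
    exact (hroots c hc) ▸ ((Polynomial.mem_roots (minpoly.ne_zero hint)).1 hc)
  refine hT1 ?_
  have h0 := minpoly.aeval k T
  rw [heq] at h0
  simpa [sub_eq_zero] using h0

/-- A common eigenvector with a nontrivial eigenvalue at a given element. -/
theorem exists_eigenchar {k : Type*} [Field k] [IsAlgClosed k] {V : Type*} [AddCommGroup V]
    [Module k V] [FiniteDimensional k V] [Nontrivial V] (ρ : X →* Module.End k V) (A : Subgroup X)
    [IsMulCommutative A] (b : A) {m : ℕ} (hm : (m : k) ≠ 0) (hbm : b ^ m = 1) (hb : ρ b ≠ 1) :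
    ∃ lam : A →* k, lam b ≠ 1 ∧ ∃ w : V, w ≠ 0 ∧ ∀ a : A, ρ a w = lam a • w := by
  classical
  obtain ⟨c₀, hc₀, hev⟩ := exists_eigenvalue_ne_one (ρ b) hm
    (by rw [← map_pow, ← SubmonoidClass.coe_pow, hbm, OneMemClass.coe_one, map_one]) hb
  let good : Submodule k V → Prop := fun U => U ≠ ⊥ ∧ U ≤ Module.End.eigenspace (ρ b) c₀ ∧
    ∀ d : A, ∀ u ∈ U, ρ d u ∈ U
  have hcomm : ∀ (d e : A) (u : V), ρ d (ρ e u) = ρ e (ρ d u) := fun d e u => by
    rw [← Module.End.mul_apply, ← map_mul, ← Module.End.mul_apply, ← map_mul,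
      show (d : X) * e = e * d from congrArg Subtype.val (‹IsMulCommutative A›.is_comm.comm d e)]
  have hne : {U | good U}.Nonempty := by
    refine ⟨Module.End.eigenspace (ρ b) c₀, hev, le_rfl, fun d u hu => ?_⟩
    rw [Module.End.mem_eigenspace_iff] at hu ⊢
    rw [hcomm b d u, hu, map_smul]
  obtain ⟨U, ⟨hU0, hUe, hUD⟩, hmin⟩ :=
    (wellFounded_lt (α := Submodule k V)).has_min {U | good U} hne
  have hscal : ∀ d : A, ∃ c : k, ∀ u ∈ U, ρ d u = c • u := by
    intro d
    have : Nontrivial U := Submodule.nontrivial_iff_ne_bot.mpr hU0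
    let f : U →ₗ[k] U := (ρ d).restrict (hUD d)
    obtain ⟨c, hc⟩ := Module.End.exists_eigenvalue f
    obtain ⟨u₀, hu₀⟩ := hc.exists_hasEigenvector
    refine ⟨c, fun u hu => ?_⟩
    by_contra hne'
    refine hmin (U ⊓ Module.End.eigenspace (ρ d) c) ⟨?_, inf_le_left.trans hUe, fun e v hv => ?_⟩
      (lt_of_le_of_ne inf_le_left fun e => hne' (Module.End.mem_eigenspace_iff.mp (e.ge hu).2))
    · intro e
      have h1 : (u₀ : V) ∈ U ⊓ Module.End.eigenspace (ρ d) c := ⟨u₀.2,
        Module.End.mem_eigenspace_iff.mpr (congrArg Subtype.val hu₀.apply_eq_smul)⟩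
      rw [e, Submodule.mem_bot] at h1
      exact hu₀.2 (Subtype.ext h1)
    · refine ⟨hUD e v hv.1, Module.End.mem_eigenspace_iff.mpr ?_⟩
      rw [hcomm, Module.End.mem_eigenspace_iff.mp hv.2, map_smul]
  choose c hc using hscal
  obtain ⟨w, hwU, hw⟩ := Submodule.exists_mem_ne_zero_of_ne_bot hU0
  have huniq : ∀ {x y : k}, x • w = y • w → x = y := fun h => smul_left_injective k hw h
  let lam : A →* k :=
    { toFun := c
      map_one' := huniq (by rw [← hc 1 w hwU, one_smul]; simp)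
      map_mul' := fun d e => huniq (by
        rw [← hc _ w hwU, Subgroup.coe_mul, map_mul, Module.End.mul_apply, hc e w hwU, map_smul,
          hc d w hwU, smul_smul, mul_comm]) }
  refine ⟨lam, fun e => hc₀ (huniq ?_), w, hw, fun d => hc d w hwU⟩
  rw [← Module.End.mem_eigenspace_iff.mp (hUe hwU), hc b w hwU]
  show lam b • w = _
  rw [e]

/-- Nonzero norm, over an algebraically closed field. -/
theorem norm_ne_zero_closed {k : Type*} [Field k] [IsAlgClosed k] {V : Type*} [AddCommGroup V]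
    [Module k V] [FiniteDimensional k V] [Nontrivial V] {p n : ℕ} [hp : Fact p.Prime] (ρ : X →* Module.End k V)
    (A : Subgroup X) [IsMulCommutative A] {m : ℕ} (hm : (m : k) ≠ 0) (hAm : ∀ a : A, a ^ m = 1) {x : X}
    (hx : x ∈ normalizer (A : Set X)) (hn : 1 ≤ n) (hxo : x ^ p ^ n = 1) {a : X} (ha : a ∈ A)
    (hne : ρ (x ^ p ^ (n - 1) * a * (x ^ p ^ (n - 1))⁻¹ * a⁻¹) ≠ 1) :
    ∑ j ∈ Finset.range (p ^ n), ρ (x ^ j) ≠ 0 := by
  classical
  intro hN
  obtain ⟨s, hs⟩ : ∃ s, n = s + 1 := ⟨n - 1, by omega⟩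
  subst hs
  rw [Nat.add_sub_cancel] at hne
  set σ := x ^ p ^ s with hσ
  have hσN : σ ∈ normalizer (A : Set X) := pow_mem hx _
  have hord : orderOf x = p ^ (s + 1) := orderOf_eq_prime_pow (fun h => hne (by simp [hσ, h])) hxo
  let b : A := ⟨σ * a * σ⁻¹ * a⁻¹, mul_mem ((mem_normalizer_iff.1 hσN a).1 ha) (inv_mem ha)⟩
  obtain ⟨lam, hlam, w, hw, hev⟩ := exists_eigenchar ρ A b hm (hAm b) hne
  let e : normalizer (A : Set X) →* MulAut A := A.normalizerMonoidHom
  have he : ∀ (g : normalizer (A : Set X)) (c : A), (e g c : X) = g * c * (g : X)⁻¹ := fun _ _ => rfl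
  let S : Subgroup (normalizer (A : Set X)) :=
    { carrier := {g | ∀ c, lam (e g c) = lam c}
      mul_mem' := fun {g h} hg hh c => by rw [map_mul, MulAut.mul_apply, hg, hh]
      one_mem' := fun c => by rw [map_one, MulAut.one_apply]
      inv_mem' := fun {g} hg c => by
        have h1 := hg (e g⁻¹ c)
        rwa [← MulAut.mul_apply, ← map_mul, mul_inv_cancel, map_one, MulAut.one_apply, eq_comm] at h1 }
  have hσS : (⟨σ, hσN⟩ : normalizer (A : Set X)) ∉ S := by
    intro h
    refine hlam ?_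
    have h1 := h ⟨a, ha⟩
    have h2 : b = e ⟨σ, hσN⟩ ⟨a, ha⟩ * (⟨a, ha⟩ : A)⁻¹ := Subtype.ext rfl
    rw [h2, map_mul, h1, ← map_mul, mul_inv_cancel, map_one]
  set xn : normalizer (A : Set X) := ⟨x, hx⟩ with hxn
  let χ : Fin (p ^ (s + 1)) → (A →* k) := fun j => lam.comp (e (xn ^ (j : ℕ))⁻¹).toMonoidHom
  have hinj : Function.Injective χ := by
    intro i j hij
    by_contra hne'
    wlog hlt : (i : ℕ) < j generalizing i j
    · exact this hij.symm (Ne.symm hne') (by
        have : (i : ℕ) ≠ j := fun h => hne' (Fin.ext h)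
        omega)
    set d := (j : ℕ) - i with hd
    have hdS : xn ^ d ∈ S := by
      refine inv_mem_iff.1 fun c => ?_
      have h1 := DFunLike.congr_fun hij (e (xn ^ (i : ℕ)) c)
      simp only [χ, MonoidHom.comp_apply, MulEquiv.coe_toMonoidHom] at h1
      rw [← MulAut.mul_apply, ← map_mul, inv_mul_cancel, map_one, MulAut.one_apply,
        ← MulAut.mul_apply, ← map_mul] at h1
      rw [h1, show (xn ^ (j : ℕ))⁻¹ * xn ^ (i : ℕ) = (xn ^ d)⁻¹ by
        rw [show (j : ℕ) = i + d by omega, pow_add, mul_inv_rev, inv_mul_cancel_right]]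
    obtain ⟨t, ht, hg⟩ := (Nat.dvd_prime_pow hp.out).1 (Nat.gcd_dvd_right d (p ^ (s + 1)))
    have hts : t ≤ s := by
      by_contra hts
      have h3 := Nat.le_of_dvd (by omega) (hg ▸ Nat.gcd_dvd_left d (p ^ (s + 1)))
      have h4 : p ^ (s + 1) ≤ p ^ t := Nat.pow_le_pow_right hp.out.pos (by omega)
      have := j.2
      omega
    refine hσS ?_
    have h5 : xn ^ (p ^ s) = (xn ^ d) ^ (Nat.gcdA d (p ^ (s + 1)) * (p ^ (s - t) : ℕ)) := by
      refine Subtype.ext ?_
      simp only [hxn, SubgroupClass.coe_pow, SubgroupClass.coe_zpow]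
      rw [← zpow_natCast x d, ← zpow_mul, ← zpow_natCast]
      refine orderOf_dvd_sub_iff_zpow_eq_zpow.1 ⟨Nat.gcdB d (p ^ (s + 1)) * (p ^ (s - t) : ℕ), ?_⟩
      have h6 := Nat.gcd_eq_gcd_ab d (p ^ (s + 1))
      rw [hg] at h6
      have h7 : ((p ^ s : ℕ) : ℤ) = ((p ^ t : ℕ) : ℤ) * ((p ^ (s - t) : ℕ) : ℤ) := by
        rw [← Nat.cast_mul, ← pow_add]; congr 2; omega
      rw [hord, h7, h6]
      ring
    have h8 : xn ^ (p ^ s) ∈ S := h5 ▸ zpow_mem hdS _
    rwa [show (⟨σ, hσN⟩ : normalizer (A : Set X)) = xn ^ (p ^ s) from Subtype.ext (by simp [hσ, hxn])]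
  have hli : LinearIndependent k (fun j => ((χ j : A →* k) : A → k)) :=
    (linearIndependent_monoidHom A k).comp χ hinj
  rw [Fintype.linearIndependent_iff] at hli
  let bas := Module.Basis.ofVectorSpace k V
  obtain ⟨l, hl⟩ : ∃ l, bas.repr w l ≠ 0 := by
    by_contra hl
    push Not at hl
    exact hw (bas.repr.map_eq_zero_iff.mp (Finsupp.ext hl))
  have h1 := hli (fun j => bas.repr (ρ (x ^ (j : ℕ)) w) l) (funext fun c => by
    have h2 : ρ (c : X) ((∑ j ∈ Finset.range (p ^ (s + 1)), ρ (x ^ j)) w) = 0 := by rw [hN]; simp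
    rw [LinearMap.sum_apply, map_sum] at h2
    have h3 : ∀ j : ℕ, ρ (c : X) (ρ (x ^ j) w) = lam (e (xn ^ j)⁻¹ c) • ρ (x ^ j) w := by
      intro j
      rw [← map_smul, ← hev, ← Module.End.mul_apply, ← map_mul, ← Module.End.mul_apply, ← map_mul, he]
      congr 2
      simp only [hxn, SubgroupClass.coe_pow, InvMemClass.coe_inv]
      group
    simp only [h3] at h2
    rw [← Fin.sum_univ_eq_sum_range (fun j => lam (e (xn ^ j)⁻¹ c) • ρ (x ^ j) w)] at h2
    have h4 := congrArg (fun v => bas.repr v l) h2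
    simp only [map_sum, map_smul, Finsupp.finsetSum_apply, Finsupp.smul_apply, smul_eq_mul, map_zero,
      Finsupp.zero_apply] at h4
    simp only [Finset.sum_apply, Pi.smul_apply, smul_eq_mul, Pi.zero_apply]
    rw [← h4]
    exact Finset.sum_congr rfl fun j _ => by simp only [χ, MonoidHom.comp_apply, MulEquiv.coe_toMonoidHom]; ring)
    ⟨0, pow_pos hp.out.pos _⟩
  simp only [pow_zero, map_one, Module.End.one_apply] at h1
  exact hl h1

/-- Nonzero norm over the prime field. -/
theorem norm_ne_zero [Finite X] {p n : ℕ} [hp : Fact p.Prime] {W : Type*} [AddCommGroup W]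
    [Module (ZMod p) W] [Finite W] (ρ : X →* Module.End (ZMod p) W) (A : Subgroup X) [IsMulCommutative A]
    (hA : (Nat.card A).Coprime p) {x : X} (hx : x ∈ normalizer (A : Set X)) (hn : 1 ≤ n)
    (hxo : x ^ p ^ n = 1) {a : X} (ha : a ∈ A)
    (hne : ρ (x ^ p ^ (n - 1) * a * (x ^ p ^ (n - 1))⁻¹ * a⁻¹) ≠ 1) :
    ∑ j ∈ Finset.range (p ^ n), ρ (x ^ j) ≠ 0 := by
  classical
  intro hN
  haveI : Module.Finite (ZMod p) W := Module.Finite.of_finite
  let bas := Module.finBasis (ZMod p) W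
  set d := Module.finrank (ZMod p) W with hd
  let k := AlgebraicClosure (ZMod p)
  let Φ : Module.End (ZMod p) W →+* Module.End k (Fin d → k) :=
    (Matrix.toLinAlgEquiv' (R := k) (n := Fin d)).toAlgHom.toRingHom.comp
      ((algebraMap (ZMod p) k).mapMatrix.comp (LinearMap.toMatrixAlgEquiv bas).toAlgHom.toRingHom)
  have hΦ : Function.Injective Φ :=
    (Matrix.toLinAlgEquiv' (R := k) (n := Fin d)).injective.comp
      ((Matrix.map_injective (algebraMap (ZMod p) k).injective).comp (LinearMap.toMatrixAlgEquiv bas).injective)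
  haveI : Nonempty (Fin d) := by
    by_contra h
    rw [not_nonempty_iff] at h
    exact hne (hΦ (LinearMap.ext fun v => funext fun i => isEmptyElim i))
  have hm : ((Nat.card A : ℕ) : k) ≠ 0 := by
    rw [Ne, CharP.cast_eq_zero_iff k p]
    exact hp.out.coprime_iff_not_dvd.1 hA.symm
  refine norm_ne_zero_closed (k := k) (Φ.toMonoidHom.comp ρ) A hm (fun a => pow_card_eq_one') hx hn hxo ha
    (fun h => hne (hΦ (by rw [map_one]; exact h))) ?_
  have h := congrArg Φ hN
  rw [map_sum, map_zero] at h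
  exact h

end linear

section group

variable {G : Type u} [Group G] [Finite G] {p : ℕ} [hp : Fact p.Prime]

omit [Finite G] in
theorem comm_of_le {X : Type*} [Group X] {H K : Subgroup X} (hK : IsMulCommutative K) (h : H ≤ K) :
    IsMulCommutative H :=
  IsMulCommutative.of_setLike_mul_comm fun _ ha _ hb => setLike_mul_comm (s := K) (h ha) (h hb)

theorem exists_sylow_map {H : Type*} [Group H] [Finite H] {f : G →* H} (hf : Function.Surjective f)
    {q : ℕ} [Fact q.Prime] {Q : Subgroup H} (hQ : IsPGroup q Q) :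
    ∃ T : Sylow q G, Q ≤ (T : Subgroup G).map f := by
  obtain ⟨S, hS⟩ := hQ.exists_le_sylow
  obtain ⟨T⟩ : Nonempty (Sylow q G) := inferInstance
  obtain ⟨g, hg⟩ := MulAction.exists_smul_eq H (T.mapSurjective hf) S
  obtain ⟨g', rfl⟩ := hf g
  refine ⟨g' • T, hS.trans ?_⟩
  rw [← hg, Sylow.coe_subgroup_smul, Sylow.coe_subgroup_smul]
  rintro _ ⟨_, ⟨x, hx, rfl⟩, rfl⟩
  exact ⟨_, ⟨x, hx, rfl⟩, by simp⟩

/-- With trivial `p'`-core, the `p ^ (n - 1)` powers of `p`-elements lie in `O_p`; relative to a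
module presentation `π` of the Frattini quotient of `O_p`. -/
theorem pow_mem_pCore_aux {W : Type u} [AddCommGroup W] [Module (ZMod p) W] [Finite W]
    (R : Subgroup G) [R.Normal] (hR : R = Cfsg.pCore p G)
    (π : ↥R → W) (hπ : ∀ v w, π (v * w) = π v + π w) (hsurj : Function.Surjective π)
    (hπker : ∀ v, π v = 0 ↔ v ∈ frattini ↥R)
    (hG : Cfsg.IsPSolvable p G) (hO : Cfsg.pPrimeCore p G = ⊥)
    (hab : ∀ (q : ℕ) [Fact q.Prime], q ≠ p → ∀ Q : Sylow q G, IsMulCommutative (Q : Subgroup G))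
    {n : ℕ} (hn : 1 ≤ n) (hexp : ∀ (P : Sylow p G), ∀ x ∈ (P : Subgroup G), x ^ p ^ n = 1)
    {x : G} (hx : ∃ j, orderOf x = p ^ j) : x ^ p ^ (n - 1) ∈ R := by
  classical
  have hRp : IsPGroup p R := hR ▸ Core.pCore_isPGroup
  have hself : centralizer (R : Set G) ≤ R := by
    rw [hR]; exact Layer.pCoreSelfCentral_of_isPSolvable hG hO
  by_contra hσ
  have hπ1 : π 1 = 0 := by
    have h1 := hπ 1 1
    rw [mul_one] at h1
    exact left_eq_add.1 h1
  have hπinv : ∀ v, π v⁻¹ = - π v := fun v => eq_neg_of_add_eq_zero_left (by rw [← hπ, inv_mul_cancel, hπ1])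
  have hwd : ∀ (g : G) (v w : R), π v = π w → π (MulAut.conjNormal g v) = π (MulAut.conjNormal g w) := by
    intro g v w h
    have h1 : v⁻¹ * w ∈ frattini R := (hπker _).1 (by rw [hπ, hπinv, h, neg_add_cancel])
    have h2 : (MulAut.conjNormal g : MulAut R) (v⁻¹ * w) ∈ frattini R :=
      Subgroup.characteristic_iff_le_comap.mp inferInstance (MulAut.conjNormal g : MulAut R) h1
    have h3 := (hπker _).2 h2
    rw [map_mul, map_inv, hπ, hπinv, neg_add_eq_zero] at h3
    exact h3
  have hinv := Function.surjInv_eq hsurj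
  let act : G → W →+ W := fun g =>
    AddMonoidHom.mk' (fun m => π (MulAut.conjNormal g (Function.surjInv hsurj m))) fun a b => by
      rw [← hπ, ← map_mul]
      exact hwd g _ _ (by rw [hπ, hinv, hinv, hinv])
  have hact : ∀ g v, act g (π v) = π (MulAut.conjNormal g v) := fun g v => hwd g _ _ (hinv (π v))
  let ρ : G →* Module.End (ZMod p) W :=
    { toFun := fun g => (act g).toZModLinearMap p
      map_one' := LinearMap.ext fun m => by
        obtain ⟨v, rfl⟩ := hsurj m
        show act 1 (π v) = π v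
        rw [hact, map_one, MulAut.one_apply]
      map_mul' := fun g h => LinearMap.ext fun m => by
        obtain ⟨v, rfl⟩ := hsurj m
        show act (g * h) (π v) = act g (act h (π v))
        rw [hact, hact, hact, map_mul, MulAut.mul_apply] }
  -- elements of coprime order with trivial action are trivial
  have hker : ∀ g : G, (orderOf g).Coprime p → ρ g = 1 → g = 1 := by
    intro g hg hρ
    have h1 : zpowers g ≤ ρ.ker := zpowers_le.2 hρ
    have hcop : (Nat.card (zpowers g)).Coprime (Nat.card (frattini R)) := by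
      obtain ⟨j, hj⟩ := (hRp.to_subgroup (frattini R)).exists_card_eq
      rw [Nat.card_zpowers, hj]
      exact Nat.Coprime.pow_right j hg
    have h2 := Coprime.le_centralizer_of_trivial_mod_frattini (A := zpowers g) (K := R)
      le_normalizer_of_normal hcop (fun y hy v hv => by
        have h3 : act y (π ⟨v, hv⟩) = π ⟨v, hv⟩ := LinearMap.congr_fun (h1 hy : ρ y = 1) (π ⟨v, hv⟩)
        rw [hact] at h3
        have h4 : MulAut.conjNormal y (⟨v, hv⟩ : R) * (⟨v, hv⟩ : R)⁻¹ ∈ frattini R := by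
          rw [← hπker, hπ, hπinv, h3, add_neg_cancel]
        exact ⟨_, h4, by simp⟩)
    obtain ⟨j, hj⟩ := IsPGroup.iff_orderOf.1 hRp ⟨g, hself (h2 (mem_zpowers g))⟩
    rw [orderOf_mk] at hj
    rw [hj] at hg
    rcases Nat.eq_zero_or_pos j with rfl | hj0
    · rwa [pow_zero, orderOf_eq_one_iff] at hj
    · exact absurd hg (hp.out.coprime_iff_not_dvd.not.2 (not_not.2 (dvd_pow_self p hj0.ne')) ∘ Nat.Coprime.symm)
  -- the quotient by `O_p`
  set f := QuotientGroup.mk' R with hf
  have hfs : Function.Surjective f := QuotientGroup.mk'_surjective R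
  set K := Cfsg.pPrimeCore p (G ⧸ R) with hK
  have hKC : centralizer (K : Set (G ⧸ R)) ≤ K :=
    Core.centralizer_pPrimeCore_le (Layer.isPSolvable_of_surjective hG hfs) (by subst hR; exact Core.pCore_quotient_eq_bot)
  set A := zpowers (f x) with hA
  have hcopAK : (Nat.card A).Coprime (Nat.card K) := by
    obtain ⟨j, hj⟩ := hx
    obtain ⟨i, -, hi⟩ := (Nat.dvd_prime_pow hp.out).1 (hj ▸ orderOf_map_dvd f x)
    rw [hA, Nat.card_zpowers, hi]
    exact Nat.Coprime.pow_left i Core.coprime_card_pPrimeCore.symm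
  obtain ⟨q, hq, Q, hQA, hQσ⟩ : ∃ (q : ℕ) (_ : Fact q.Prime) (Q : Sylow q K),
      A ≤ normalizer ((Q : Subgroup K).map K.subtype : Set (G ⧸ R)) ∧
      ¬ (Q : Subgroup K).map K.subtype ≤ centralizer ({f (x ^ p ^ (n - 1))} : Set (G ⧸ R)) := by
    by_contra hall
    push Not at hall
    have hle : K ≤ centralizer ({f (x ^ p ^ (n - 1))} : Set (G ⧸ R)) := by
      refine subgroupOf_eq_top.1 (index_eq_one.1 ?_)
      by_contra hne
      obtain ⟨q, hq, hqd⟩ := Nat.exists_prime_and_dvd hne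
      haveI := Fact.mk hq
      obtain ⟨Q, hQ⟩ := Coprime.exists_invariant_sylow (A := A) (K := K) le_normalizer_of_normal hcopAK
        (Or.inl inferInstance) q
      refine Q.not_dvd_index (hqd.trans (index_dvd_of_le fun y hy => ?_))
      exact hall q ⟨hq⟩ Q hQ (mem_map_of_mem K.subtype hy)
    have hmem : f (x ^ p ^ (n - 1)) ∈ K :=
      hKC (mem_centralizer_iff.2 fun y hy => mem_centralizer_singleton_iff.1 (hle hy))
    refine hσ ((QuotientGroup.eq_one_iff _).1 ?_)
    have h1 : orderOf (f (x ^ p ^ (n - 1))) ∣ Nat.card A := by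
      rw [hA, Nat.card_zpowers, map_pow]; exact orderOf_pow_dvd _
    exact orderOf_eq_one_iff.1 (Nat.eq_one_of_dvd_coprimes hcopAK h1 (Subgroup.orderOf_dvd_natCard _ hmem))
  haveI := hq
  set Q' := (Q : Subgroup K).map K.subtype with hQ'
  have hQp : IsPGroup q Q' := Q.2.map _
  rw [SetLike.not_le_iff_exists] at hQσ
  obtain ⟨b, hbQ, hb⟩ := hQσ
  have hqp : q ≠ p := by
    rintro rfl
    have h1 : Nat.card Q' = 1 := by
      obtain ⟨j, hj⟩ := IsPGroup.iff_card.1 hQp
      have h2 : (Nat.card Q').Coprime q :=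
        Nat.Coprime.coprime_dvd_left (card_dvd_of_le (map_subtype_le _)) Core.coprime_card_pPrimeCore
      rcases Nat.eq_zero_or_pos j with rfl | hj0
      · simpa using hj
      · exact absurd (h2.coprime_dvd_left (hj ▸ dvd_pow_self q hj0.ne'))
          (by simp [Nat.coprime_self, hp.out.ne_one])
    rw [card_eq_one.1 h1, mem_bot] at hbQ
    exact hb (hbQ ▸ one_mem _)
  -- lift the abelian operator group
  set E := Q'.comap f with hE
  obtain ⟨T⟩ : Nonempty (Sylow q E) := inferInstance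
  set Tg := (T : Subgroup E).map E.subtype with hTg
  have hTQ : Tg.map f = Q' := by
    have hsur : Function.Surjective (f.subgroupComap Q') :=
      MonoidHom.subgroupComap_surjective_of_surjective f _ hfs
    have h1 : (T.mapSurjective hsur : Subgroup Q') = ⊤ :=
      ((T.mapSurjective hsur).is_maximal' (hQp.to_subgroup ⊤) le_top).symm
    refine le_antisymm ?_ fun y hy => ?_
    · rintro _ ⟨_, ⟨e, _, rfl⟩, rfl⟩; exact e.2
    · obtain ⟨e, he, hey⟩ := (h1.ge (mem_top (⟨y, hy⟩ : Q')) : _ ∈ (T.mapSurjective hsur : Subgroup Q'))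
      exact ⟨e, ⟨e, he, rfl⟩, congrArg Subtype.val hey⟩
  have hxE : x ∈ normalizer (E : Set G) := by
    rw [mem_normalizer_iff]
    intro y
    simp only [hE, mem_comap, map_mul, map_inv]
    exact mem_normalizer_iff.1 (hQA (mem_zpowers (f x))) (f y)
  -- correct `x` to normalise `Tg`
  obtain ⟨r, hr, hrx⟩ : ∃ r ∈ R, r * x ∈ normalizer (Tg : Set G) := by
    obtain ⟨R', hR'⟩ : ∃ S : Sylow q E, (S : Subgroup E).map E.subtype =
        Tg.map (MulAut.conj x).toMonoidHom := by
      have hle : Tg.map (MulAut.conj x).toMonoidHom ≤ E := by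
        rintro _ ⟨t, ht, rfl⟩
        exact (mem_normalizer_iff.1 hxE t).1 (map_subtype_le _ ht)
      refine ⟨Sylow.ofCard ((Tg.map (MulAut.conj x).toMonoidHom).subgroupOf E) ?_, ?_⟩
      · rw [Nat.card_congr (subgroupOfEquivOfLe hle).toEquiv, card_map_of_injective (MulAut.conj x).injective,
          hTg, card_map_of_injective E.subtype_injective, T.card_eq_multiplicity]
      · rw [Sylow.coe_ofCard, map_subgroupOf_eq_of_le hle]
    obtain ⟨e, he⟩ := MulAction.exists_smul_eq E R' T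
    obtain ⟨t, htT, htf⟩ : ∃ t ∈ Tg, f t = f (e : G) := by
      have : f (e : G) ∈ Tg.map f := hTQ.symm ▸ e.2
      exact this
    refine ⟨t⁻¹ * e, by rw [← QuotientGroup.eq_one_iff, ← QuotientGroup.mk'_apply, ← hf, map_mul, map_inv, htf, inv_mul_cancel], ?_⟩
    rw [mul_assoc]
    refine mul_mem (inv_mem (le_normalizer htT)) ?_
    refine Coprime.mem_normalizer_of_conj_smul_eq ?_
    have h1 : ((e • R' : Sylow q E) : Subgroup E).map E.subtype = Tg := by rw [he]
    conv_rhs => rw [← h1]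
    rw [Sylow.coe_subgroup_smul, Coprime.conj_smul_map_subtype, hR', map_mul, mul_smul]
    rfl
  set y := r * x with hy
  have hfy : f y = f x := by rw [hy, map_mul, show f r = 1 from (QuotientGroup.eq_one_iff r).2 hr, one_mul]
  have hyp : y ^ p ^ n = 1 ∧ ∀ v ∈ R, (v * y) ^ p ^ n = 1 := by
    have hsup : IsPGroup p (R ⊔ zpowers x : Subgroup G) := by
      obtain ⟨j, hj⟩ := hx
      exact hRp.to_sup_of_normal_left (IsPGroup.of_card (n := j) (by rw [Nat.card_zpowers, hj]))
    obtain ⟨P, hP⟩ := hsup.exists_le_sylow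
    have hyP : y ∈ (P : Subgroup G) := hP (mul_mem (mem_sup_left hr) (mem_sup_right (mem_zpowers x)))
    exact ⟨hexp P y hyP, fun v hv => hexp P _ (mul_mem (hP (mem_sup_left hv)) hyP)⟩
  haveI : IsMulCommutative Tg := by
    obtain ⟨S, hS⟩ := (T.2.map E.subtype).exists_le_sylow
    exact comm_of_le (hab q hqp S) hS
  have hTcop : (Nat.card Tg).Coprime p := by
    obtain ⟨j, hj⟩ := IsPGroup.iff_card.1 (T.2.map E.subtype)
    rw [hTg, hj]
    exact Nat.Coprime.pow_left j ((Nat.coprime_primes hq.out hp.out).2 hqp)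
  obtain ⟨a, haT, haf⟩ : ∃ a ∈ Tg, f a = b := by
    have : b ∈ Tg.map f := hTQ.symm ▸ hbQ
    exact this
  set c := y ^ p ^ (n - 1) * a * (y ^ p ^ (n - 1))⁻¹ * a⁻¹ with hc
  have hcT : c ∈ Tg := mul_mem ((mem_normalizer_iff.1 (pow_mem hrx _) a).1 haT) (inv_mem haT)
  have hρc : ρ c ≠ 1 := by
    intro h
    refine hb (mem_centralizer_singleton_iff.2 ?_)
    have hc1 := hker c (hTcop.coprime_dvd_left (Subgroup.orderOf_dvd_natCard _ hcT)) h
    have h2 : f (c) = 1 := by rw [hc1, map_one]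
    rw [hc, map_mul, map_mul, map_mul, map_inv, map_inv, map_pow, hfy, haf, ← map_pow, mul_inv_eq_one,
      mul_inv_eq_iff_eq_mul] at h2
    exact h2.symm
  refine norm_ne_zero ρ Tg hTcop hrx hn hyp.1 haT hρc (LinearMap.ext fun m => ?_)
  obtain ⟨v, rfl⟩ := hsurj m
  rw [LinearMap.sum_apply, LinearMap.zero_apply]
  have key : ∀ i : ℕ, ∃ w : R, ((v : G) * y) ^ i = (w : G) * y ^ i ∧
      π w = ∑ j ∈ Finset.range i, ρ (y ^ j) (π v) := by
    intro i
    induction i with
    | zero => exact ⟨1, by simp, by simp [hπ1]⟩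
    | succ i ih =>
      obtain ⟨w, hw1, hw2⟩ := ih
      refine ⟨w * MulAut.conjNormal (y ^ i) v, ?_, ?_⟩
      · rw [pow_succ, hw1, Subgroup.coe_mul, MulAut.conjNormal_apply, pow_succ]
        group
      · rw [Finset.sum_range_succ, ← hw2, hπ]
        exact congrArg (π w + ·) (hact (y ^ i) v).symm
  obtain ⟨w, hw1, hw2⟩ := key (p ^ n)
  rw [← hw2]
  rw [hyp.2 v v.2, hyp.1, mul_one] at hw1
  rw [show w = 1 from Subtype.ext hw1.symm]
  exact hπ1

/-- With trivial `p'`-core, the `p ^ (n - 1)` powers of `p`-elements lie in `O_p`. -/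
theorem pow_mem_pCore (hG : Cfsg.IsPSolvable p G) (hO : Cfsg.pPrimeCore p G = ⊥)
    (hab : ∀ (q : ℕ) [Fact q.Prime], q ≠ p → ∀ Q : Sylow q G, IsMulCommutative (Q : Subgroup G))
    {n : ℕ} (hn : 1 ≤ n) (hexp : ∀ (P : Sylow p G), ∀ x ∈ (P : Subgroup G), x ^ p ^ n = 1)
    {x : G} (hx : ∃ j, orderOf x = p ^ j) : x ^ p ^ (n - 1) ∈ Cfsg.pCore p G := by
  have hRp : IsPGroup p (Cfsg.pCore p G) := Core.pCore_isPGroup
  have : Group.IsNilpotent (Cfsg.pCore p G) := hRp.isNilpotent
  set F := frattini ↥(Cfsg.pCore p G)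
  have hc : IsMulCommutative (↥(Cfsg.pCore p G) ⧸ F) :=
    Subgroup.Normal.quotient_commutative_iff_commutator_le.mpr Core.commutator_le_frattini
  letI : CommGroup (↥(Cfsg.pCore p G) ⧸ F) :=
    { (inferInstance : Group (↥(Cfsg.pCore p G) ⧸ F)) with mul_comm := hc.is_comm.comm }
  letI : Module (ZMod p) (Additive (↥(Cfsg.pCore p G) ⧸ F)) :=
    AddCommGroup.zmodModule fun m => by
      obtain ⟨v, hv⟩ := QuotientGroup.mk'_surjective F (Additive.toMul m)
      apply Additive.toMul.injective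
      rw [toMul_nsmul, ← hv, ← map_pow]
      exact (QuotientGroup.eq_one_iff _).2 (Core.pow_mem_frattini hRp v)
  exact pow_mem_pCore_aux (W := Additive (↥(Cfsg.pCore p G) ⧸ F)) (Cfsg.pCore p G) rfl
    (fun v => Additive.ofMul (QuotientGroup.mk' F v)) (fun v w => by rw [map_mul]; rfl)
    (fun m => (QuotientGroup.mk'_surjective F (Additive.toMul m)).imp fun v hv => congrArg Additive.ofMul hv)
    (fun v => QuotientGroup.eq_one_iff v) hG hO hab hn hexp hx

theorem pLengthLE_of_abelian : ∀ (n : ℕ) (G : Type u) [Group G] [Finite G], Cfsg.IsPSolvable p G →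
    (∀ (q : ℕ) [Fact q.Prime], q ≠ p → ∀ Q : Sylow q G, IsMulCommutative (Q : Subgroup G)) →
    (∀ (P : Sylow p G), ∀ x ∈ (P : Subgroup G), x ^ p ^ n = 1) → Cfsg.PLengthLE p n G := by
  intro n
  induction n with
  | zero =>
    intro G _ _ _ _ hexp
    refine pLengthLE_zero_of_coprime (Nat.Coprime.symm (hp.out.coprime_iff_not_dvd.2 fun hd => ?_))
    obtain ⟨P⟩ : Nonempty (Sylow p G) := inferInstance
    refine P.ne_bot_of_dvd_card hd ((eq_bot_iff_forall _).2 fun x hx => ?_)
    simpa using hexp P x hx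
  | succ n ih =>
    intro G _ _ hG hab hexp
    set U := Cfsg.pPrimeCore p G with hU
    -- `G ⧸ O_{p'}`
    have hmk : Function.Surjective (QuotientGroup.mk' U) := QuotientGroup.mk'_surjective U
    have hG₁ := Layer.isPSolvable_of_surjective hG hmk
    have hO₁ : Cfsg.pPrimeCore p (G ⧸ U) = ⊥ := Core.pPrimeCore_quotient_eq_bot
    have hab₁ : ∀ (q : ℕ) [Fact q.Prime], q ≠ p → ∀ Q : Sylow q (G ⧸ U),
        IsMulCommutative (Q : Subgroup (G ⧸ U)) := by
      intro q _ hq Q
      obtain ⟨T, hT⟩ := exists_sylow_map hmk Q.2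
      haveI := hab q hq T
      exact comm_of_le (K := (T : Subgroup G).map (QuotientGroup.mk' U)) inferInstance hT
    have hexp₁ : ∀ (P : Sylow p (G ⧸ U)), ∀ x ∈ (P : Subgroup (G ⧸ U)), x ^ p ^ (n + 1) = 1 := by
      intro P x hx
      obtain ⟨T, hT⟩ := exists_sylow_map hmk P.2
      obtain ⟨t, ht, rfl⟩ := hT hx
      rw [← map_pow, hexp T t ht, map_one]
    set R := Cfsg.pCore p (G ⧸ U) with hR
    have hmk₂ : Function.Surjective (QuotientGroup.mk' R) := QuotientGroup.mk'_surjective R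
    have hL : Cfsg.PLengthLE p n ((G ⧸ U) ⧸ R) := by
      refine ih _ (Layer.isPSolvable_of_surjective hG₁ hmk₂) (fun q _ hq Q => ?_) fun P x hx => ?_
      · obtain ⟨T, hT⟩ := exists_sylow_map hmk₂ Q.2
        haveI := hab₁ q hq T
        exact comm_of_le (K := (T : Subgroup (G ⧸ U)).map (QuotientGroup.mk' R)) inferInstance hT
      · obtain ⟨T, hT⟩ := exists_sylow_map hmk₂ P.2
        obtain ⟨t, ht, rfl⟩ := hT hx
        rw [← map_pow]
        refine (QuotientGroup.eq_one_iff _).2 (pow_mem_pCore hG₁ hO₁ hab₁ (n := n + 1) (by omega) hexp₁ ?_)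
        obtain ⟨j, hj⟩ := IsPGroup.iff_orderOf.1 T.2 ⟨t, ht⟩
        exact ⟨j, by rwa [orderOf_mk] at hj⟩
    have h1 : Cfsg.PLengthLE p (1 + n) (G ⧸ U) :=
      of_extension R (pLengthLE_one_of_isPGroup Core.pCore_isPGroup) hL
    have h2 := of_extension U (pLengthLE_zero_of_coprime Core.coprime_card_pPrimeCore) h1
    rwa [show 0 + (1 + n) = n + 1 by omega] at h2

end group

end Cfsg.Agent.PLength
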