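import Cfsg.Prelude.Def_Local
import Cfsg.Agent.Core.PCore
import Cfsg.Agent.Core.Basics
import Cfsg.Agent.OddLocal.PLengthOne

/-!
`p`-length via normal chains: `PLengthLE p k G` holds iff `G` has a normal chain of length `2 k + 1`
whose factors are alternately `p'`-groups and `p`-groups. Closure under subgroups, quotients and
extensions.
-/

set_option autoImplicit false

namespace Cfsg.Agent.PLength

open Subgroup

universe u

variable {G : Type u} [Group G] {p : ℕ}

/-- The allowed orders of the factor in position `j`. -/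
def Step (p j n : ℕ) : Prop := if Even j then n.Coprime p else ∃ m, n = p ^ m

theorem step_one (p j : ℕ) : Step p j 1 := by
  unfold Step
  split_ifs
  · exact Nat.coprime_one_left p
  · exact ⟨0, (pow_zero p).symm⟩

theorem step_of_dvd (hp : p.Prime) {j m n : ℕ} (h : Step p j n) (hd : m ∣ n) : Step p j m := by
  unfold Step at h ⊢
  split_ifs at h ⊢
  · exact h.coprime_dvd_left hd
  · obtain ⟨k, rfl⟩ := h
    obtain ⟨i, -, hi⟩ := (Nat.dvd_prime_pow hp).1 hd
    exact ⟨i, hi⟩

theorem step_congr {i j n : ℕ} (h : Even i ↔ Even j) : Step p i n ↔ Step p j n := by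
  unfold Step
  by_cases hi : Even i
  · rw [if_pos hi, if_pos (h.1 hi)]
  · rw [if_neg hi, if_neg (mt h.2 hi)]

/-- A normal chain with alternating factors. -/
structure IsChain (p : ℕ) (T : ℕ → Subgroup G) : Prop where
  zero : T 0 = ⊥
  normal : ∀ j, (T j).Normal
  le : ∀ j, T j ≤ T (j + 1)
  step : ∀ j, Step p j ((T j).relIndex (T (j + 1)))

/-- The upper series as a chain of subgroups. -/
def upper (p : ℕ) (G : Type u) [Group G] (j : ℕ) : Subgroup G := (upperPSeries p G j).1

theorem relIndex_eq_card_map (N T : Subgroup G) [N.Normal] :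
    N.relIndex T = Nat.card (T.map (QuotientGroup.mk' N)) := by
  conv_lhs => rw [← QuotientGroup.ker_mk' N]
  exact relIndex_ker _ _

theorem card_map_dvd_card_map {G' : Type*} [Group G'] (f : G →* G') (N T : Subgroup G) [N.Normal]
    (N' : Subgroup G') [N'.Normal] (h : ∀ x ∈ N, f x ∈ N') :
    N'.relIndex (T.map f) ∣ N.relIndex T := by
  rw [relIndex_eq_card_map, relIndex_eq_card_map, Subgroup.map_map]
  let g : G ⧸ N →* G' ⧸ N' := QuotientGroup.map N N' f fun x hx => h x hx
  rw [show (QuotientGroup.mk' N').comp f = g.comp (QuotientGroup.mk' N) from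
    MonoidHom.ext fun x => rfl, ← Subgroup.map_map]
  exact Subgroup.card_map_dvd _ _

theorem relIndex_mk_comap (U : Subgroup G) [U.Normal] (V : Subgroup (G ⧸ U)) :
    U.relIndex (V.comap (QuotientGroup.mk' U)) = Nat.card V := by
  rw [relIndex_eq_card_map, Subgroup.map_comap_eq_self_of_surjective (QuotientGroup.mk'_surjective U)]

theorem le_comap_mk (U : Subgroup G) [U.Normal] (V : Subgroup (G ⧸ U)) :
    U ≤ V.comap (QuotientGroup.mk' U) := by
  conv_lhs => rw [← QuotientGroup.ker_mk' U]
  exact Subgroup.comap_mono bot_le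

instance upper_normal (j : ℕ) : (upper p G j).Normal := (upperPSeries p G j).2

theorem upper_succ_even {j : ℕ} (hj : Even j) :
    upper p G (j + 1) = (pPrimeCore p (G ⧸ (upperPSeries p G j).1)).comap
      (QuotientGroup.mk' (upperPSeries p G j).1) := by
  simp [upper, upperPSeries, hj]

theorem upper_succ_odd {j : ℕ} (hj : ¬ Even j) :
    upper p G (j + 1) = (pCore p (G ⧸ (upperPSeries p G j).1)).comap
      (QuotientGroup.mk' (upperPSeries p G j).1) := by
  simp [upper, upperPSeries, hj]

theorem isChain_upper [Finite G] [hp : Fact p.Prime] : IsChain p (upper p G) where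
  zero := rfl
  normal j := (upperPSeries p G j).2
  le j := by
    by_cases hj : Even j
    · rw [upper_succ_even hj]; exact le_comap_mk _ _
    · rw [upper_succ_odd hj]; exact le_comap_mk _ _
  step j := by
    unfold Step
    split_ifs with hj
    · rw [upper_succ_even hj, upper, relIndex_mk_comap]
      exact Core.coprime_card_pPrimeCore
    · rw [upper_succ_odd hj, upper, relIndex_mk_comap]
      exact IsPGroup.iff_card.1 Core.pCore_isPGroup

theorem IsChain.le_upper [Finite G] [hp : Fact p.Prime] {T : ℕ → Subgroup G} (hT : IsChain p T) :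
    ∀ j, T j ≤ upper p G j := by
  intro j
  induction j with
  | zero => rw [hT.zero]; exact bot_le
  | succ j ih =>
    haveI := hT.normal j
    haveI := hT.normal (j + 1)
    haveI hU : (upperPSeries p G j).1.Normal := (upperPSeries p G j).2
    have hd : Nat.card ((T (j + 1)).map (QuotientGroup.mk' (upperPSeries p G j).1)) ∣
        (T j).relIndex (T (j + 1)) := by
      rw [← relIndex_eq_card_map]
      have h1 := card_map_dvd_card_map (MonoidHom.id G) (T j) (T (j + 1)) (upperPSeries p G j).1
        (fun x hx => ih hx)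
      rwa [Subgroup.map_id] at h1
    haveI hn : ((T (j + 1)).map (QuotientGroup.mk' (upperPSeries p G j).1)).Normal :=
      Subgroup.Normal.map inferInstance _ (QuotientGroup.mk'_surjective _)
    have hs := step_of_dvd hp.out (hT.step j) hd
    unfold Step at hs
    by_cases hj : Even j
    · rw [if_pos hj] at hs
      rw [upper_succ_even hj, ← Subgroup.map_le_iff_le_comap]
      exact Core.le_pPrimeCore hs
    · rw [if_neg hj] at hs
      obtain ⟨m, hm⟩ := hs
      rw [upper_succ_odd hj, ← Subgroup.map_le_iff_le_comap]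
      exact Core.le_pCore (IsPGroup.of_card hm)

theorem IsChain.mono {T : ℕ → Subgroup G} (hT : IsChain p T) {i j : ℕ} (h : i ≤ j) : T i ≤ T j :=
  monotone_nat_of_le_succ hT.le h

/-- `PLengthLE` from a chain. -/
theorem IsChain.pLengthLE [Finite G] [Fact p.Prime] {T : ℕ → Subgroup G} (hT : IsChain p T) {k : ℕ}
    (h : T (2 * k + 1) = ⊤) : Cfsg.PLengthLE p k G :=
  top_unique (h ▸ hT.le_upper (2 * k + 1))

theorem upper_top [Finite G] [Fact p.Prime] {k j : ℕ} (h : Cfsg.PLengthLE p k G) (hj : 2 * k + 1 ≤ j) :
    upper p G j = ⊤ :=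
  top_unique ((h : upper p G (2 * k + 1) = ⊤) ▸ isChain_upper.mono hj)

theorem mono [Finite G] [Fact p.Prime] {k k' : ℕ} (h : Cfsg.PLengthLE p k G) (hk : k ≤ k') :
    Cfsg.PLengthLE p k' G :=
  upper_top h (by omega)

theorem pLengthLE_zero_of_coprime [Finite G] [hp : Fact p.Prime] (h : (Nat.card G).Coprime p) :
    Cfsg.PLengthLE p 0 G := by
  refine IsChain.pLengthLE (T := fun j => if j = 0 then ⊥ else ⊤) ⟨rfl, fun j => ?_, fun j => ?_, fun j => ?_⟩ rfl
  · try dsimp only
    split_ifs <;> infer_instance
  · simp
  · rcases Nat.eq_zero_or_pos j with rfl | hj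
    · simpa [Step, relIndex_bot_left] using h
    · simp [hj.ne', step_one]

theorem pLengthLE_one_of_isPGroup [Finite G] [hp : Fact p.Prime] (h : IsPGroup p G) :
    Cfsg.PLengthLE p 1 G := by
  refine IsChain.pLengthLE (T := fun j => if j ≤ 1 then ⊥ else ⊤) ⟨rfl, fun j => ?_, fun j => ?_, fun j => ?_⟩ rfl
  · try dsimp only
    split_ifs <;> infer_instance
  · try dsimp only
    split_ifs <;> first | omega | simp
  · rcases lt_trichotomy j 1 with hj | rfl | hj
    · obtain rfl : j = 0 := by omega
      simp [Step]
    · simpa [Step, relIndex_bot_left] using IsPGroup.iff_card.1 h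
    · simp [show ¬ j ≤ 1 by omega, show ¬ j + 1 ≤ 1 by omega, step_one]

/-- Images. -/
theorem of_surjective [Finite G] [hp : Fact p.Prime] {H : Type*} [Group H] [Finite H] {k : ℕ}
    (h : Cfsg.PLengthLE p k G) (f : G →* H) (hf : Function.Surjective f) : Cfsg.PLengthLE p k H := by
  have hn : ∀ j, ((upper p G j).map f).Normal := fun j => Subgroup.Normal.map (upperPSeries p G j).2 f hf
  refine IsChain.pLengthLE (T := fun j => (upper p G j).map f)
    ⟨by simp only [isChain_upper.zero, Subgroup.map_bot], hn,
      fun j => Subgroup.map_mono (isChain_upper.le j), fun j => ?_⟩ ?_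
  · haveI := hn j
    haveI : (upper p G j).Normal := (upperPSeries p G j).2
    exact step_of_dvd hp.out (isChain_upper.step j)
      (card_map_dvd_card_map f (upper p G j) (upper p G (j + 1)) ((upper p G j).map f)
        fun x hx => Subgroup.mem_map_of_mem f hx)
  · rw [upper_top h le_rfl, Subgroup.map_top_of_surjective f hf]

/-- Subgroups, along an injective homomorphism. -/
theorem of_injective [Finite G] [hp : Fact p.Prime] {H : Type*} [Group H] [Finite H] {k : ℕ}
    (h : Cfsg.PLengthLE p k G) (f : H →* G) (hf : Function.Injective f) : Cfsg.PLengthLE p k H := by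
  have hn : ∀ j, ((upper p G j).comap f).Normal := fun j => (upperPSeries p G j).2.comap f
  refine IsChain.pLengthLE (T := fun j => (upper p G j).comap f)
    ⟨?_, hn, fun j => Subgroup.comap_mono (isChain_upper.le j), fun j => ?_⟩ ?_
  · show (upper p G 0).comap f = ⊥
    rw [isChain_upper.zero, MonoidHom.comap_bot, (MonoidHom.ker_eq_bot_iff f).2 hf]
  · haveI : (upper p G j).Normal := (upperPSeries p G j).2
    refine step_of_dvd hp.out ((isChain_upper (p := p) (G := G)).step j) ?_
    rw [Subgroup.relIndex_comap, relIndex_eq_card_map, relIndex_eq_card_map]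
    exact Subgroup.card_dvd_of_le (Subgroup.map_mono (Subgroup.map_comap_le _ _))
  · rw [upper_top h le_rfl, Subgroup.comap_top]

theorem map_upper_le [Finite G] [Fact p.Prime] {H : Type*} [Group H] [Finite H] (e : G ≃* H) (j : ℕ) :
    (upper p G j).map e.toMonoidHom ≤ upper p H j := by
  have hn : ∀ j, ((upper p G j).map e.toMonoidHom).Normal := fun j =>
    Subgroup.Normal.map (upperPSeries p G j).2 _ e.surjective
  refine IsChain.le_upper (T := fun j => (upper p G j).map e.toMonoidHom)
    ⟨by simp only [isChain_upper.zero, Subgroup.map_bot], hn,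
      fun j => Subgroup.map_mono (isChain_upper.le j), fun j => ?_⟩ j
  rw [Subgroup.relIndex_map_map_of_injective _ _ e.injective]
  exact isChain_upper.step j

theorem upper_characteristic [Finite G] [Fact p.Prime] (j : ℕ) : (upper p G j).Characteristic :=
  Subgroup.characteristic_iff_map_le.2 fun e => map_upper_le e j

/-- Extensions. -/
theorem of_extension [Finite G] [hp : Fact p.Prime] (N : Subgroup G) [N.Normal] {a b : ℕ}
    (hN : Cfsg.PLengthLE p a N) (hQ : Cfsg.PLengthLE p b (G ⧸ N)) : Cfsg.PLengthLE p (a + b) G := by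
  let A : ℕ → Subgroup G := fun j => (upper p N j).map N.subtype
  let B : ℕ → Subgroup G := fun j => (upper p (G ⧸ N) j).comap (QuotientGroup.mk' N)
  have hA : ∀ j, (A j).Normal := fun j => by
    haveI := upper_characteristic (p := p) (G := N) j
    exact ConjAct.normal_of_characteristic_of_normal
  have hB : ∀ j, (B j).Normal := fun j => (upperPSeries p (G ⧸ N) j).2.comap _
  have hAN : ∀ j, A j ≤ N := fun j => Subgroup.map_subtype_le _
  have hNB : ∀ j, N ≤ B j := fun j => le_comap_mk _ _
  let T : ℕ → Subgroup G := fun j => if j ≤ 2 * a then A j else B (j - 2 * a)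
  refine IsChain.pLengthLE (T := T) ⟨?_, fun j => ?_, fun j => ?_, fun j => ?_⟩ ?_
  · show (if 0 ≤ 2 * a then A 0 else B (0 - 2 * a)) = ⊥
    rw [if_pos (Nat.zero_le _)]
    simp only [A, isChain_upper.zero, Subgroup.map_bot]
  · dsimp only [T]; split_ifs
    · exact hA j
    · exact hB _
  · dsimp only [T]; split_ifs with h1 h2
    · exact Subgroup.map_mono (isChain_upper.le j)
    · exact (hAN j).trans (hNB _)
    · omega
    · rw [show j + 1 - 2 * a = (j - 2 * a) + 1 by omega]
      exact Subgroup.comap_mono (isChain_upper.le _)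
  · dsimp only [T]
    rcases lt_trichotomy j (2 * a) with hj | rfl | hj
    · rw [if_pos hj.le, if_pos (show j + 1 ≤ 2 * a by omega)]
      simp only [A, Subgroup.relIndex_map_map_of_injective _ _ N.subtype_injective]
      exact isChain_upper.step j
    · rw [if_pos le_rfl, if_neg (by omega), show 2 * a + 1 - 2 * a = 1 by omega,
        ← Subgroup.relIndex_mul_relIndex (A (2 * a)) N (B 1) (hAN _) (hNB _)]
      have h1 : (A (2 * a)).relIndex N = (upper p N (2 * a)).relIndex (upper p N (2 * a + 1)) := by
        rw [← Subgroup.relIndex_map_map_of_injective (upper p N (2 * a)) _ N.subtype_injective,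
          upper_top hN le_rfl, ← MonoidHom.range_eq_map, Subgroup.range_subtype]
      have h2 : N.relIndex (B 1) = (upper p (G ⧸ N) 0).relIndex (upper p (G ⧸ N) (0 + 1)) := by
        rw [isChain_upper.zero, relIndex_bot_left, relIndex_mk_comap]
      have s1 := isChain_upper.step (p := p) (G := N) (2 * a)
      have s2 := isChain_upper.step (p := p) (G := G ⧸ N) 0
      unfold Step at s1 s2 ⊢
      rw [if_pos (even_two_mul a)] at s1 ⊢
      rw [if_pos Even.zero] at s2
      rw [h1, h2]
      exact Nat.Coprime.mul_left s1 s2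
    · rw [if_neg (show ¬ j ≤ 2 * a by omega), if_neg (show ¬ j + 1 ≤ 2 * a by omega),
        show j + 1 - 2 * a = (j - 2 * a) + 1 by omega]
      simp only [B, Subgroup.relIndex_comap, Subgroup.map_comap_eq_self_of_surjective (QuotientGroup.mk'_surjective N)]
      refine (step_congr ?_).1 (isChain_upper.step (p := p) (G := G ⧸ N) (j - 2 * a))
      rw [Nat.even_sub (by omega)]
      simp
  · show (if 2 * (a + b) + 1 ≤ 2 * a then A _ else B (2 * (a + b) + 1 - 2 * a)) = ⊤
    rw [if_neg (by omega), show 2 * (a + b) + 1 - 2 * a = 2 * b + 1 by omega]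
    show (upper p (G ⧸ N) (2 * b + 1)).comap _ = ⊤
    rw [upper_top hQ le_rfl, Subgroup.comap_top]

end Cfsg.Agent.PLength
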