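import Cfsg.Agent.PLength.Basic
import Cfsg.Agent.Layer.PConstraint
import Cfsg.Agent.Core.FaithfulTI
import Cfsg.Agent.Coprime.Basic
import Cfsg.Agent.Core.Frattini

/-!
The Frattini quotient of `O_p` as a module, for a `p`-solvable group with trivial `p'`-core.
-/

set_option autoImplicit false

namespace Cfsg.Agent.PLength

open Subgroup

universe u

variable {G : Type u} [Group G] [Finite G] {p : ℕ} [hp : Fact p.Prime]

/-- The action on a presentation `π` of the Frattini quotient. -/
theorem exists_action_of_presentation {V : Type u} [AddCommGroup V] [Module (ZMod p) V]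
    (R : Subgroup G) [R.Normal] (hR : R = Cfsg.pCore p G)
    (π : ↥R → V) (hπ : ∀ v w, π (v * w) = π v + π w) (hsurj : Function.Surjective π)
    (hπker : ∀ v, π v = 0 ↔ v ∈ frattini ↥R)
    (hG : Cfsg.IsPSolvable p G) (hO : Cfsg.pPrimeCore p G = ⊥) :
    ∃ ρ : G →* Module.End (ZMod p) V,
      (∀ g v, ρ g (π v) = π (MulAut.conjNormal g v)) ∧ ρ.ker = R := by
  classical
  have hRp : IsPGroup p R := hR ▸ Core.pCore_isPGroup
  have hself : centralizer (R : Set G) ≤ R := by
    rw [hR]; exact Layer.pCoreSelfCentral_of_isPSolvable hG hO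
  have hπ1 : π 1 = 0 := by
    have h1 := hπ 1 1
    rw [mul_one] at h1
    exact left_eq_add.1 h1
  have hπinv : ∀ v, π v⁻¹ = - π v := fun v => eq_neg_of_add_eq_zero_left (by rw [← hπ, inv_mul_cancel, hπ1])
  have hwd : ∀ (g : G) (v w : R), π v = π w → π (MulAut.conjNormal g v) = π (MulAut.conjNormal g w) := by
    intro g v w h
    have h1 : v⁻¹ * w ∈ frattini R := (hπker _).1 (by rw [hπ, hπinv, h, neg_add_cancel])
    have h2 : (MulAut.conjNormal g : MulAut R) (v⁻¹ * w) ∈ frattini R :=
      Subgroup.characteristic_iff_le_comap.mp inferInstance (MulAut.conjNormal g : MulAut R) h1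
    have h3 := (hπker _).2 h2
    rw [map_mul, map_inv, hπ, hπinv, neg_add_eq_zero] at h3
    exact h3
  have hinv := Function.surjInv_eq hsurj
  let act : G → V →+ V := fun g =>
    AddMonoidHom.mk' (fun m => π (MulAut.conjNormal g (Function.surjInv hsurj m))) fun a b => by
      rw [← hπ, ← map_mul]
      exact hwd g _ _ (by rw [hπ, hinv, hinv, hinv])
  have hact : ∀ g v, act g (π v) = π (MulAut.conjNormal g v) := fun g v => hwd g _ _ (hinv (π v))
  let ρ : G →* Module.End (ZMod p) V :=
    { toFun := fun g => (act g).toZModLinearMap p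
      map_one' := LinearMap.ext fun m => by
        obtain ⟨v, rfl⟩ := hsurj m
        show act 1 (π v) = π v
        rw [hact, map_one, MulAut.one_apply]
      map_mul' := fun g h => LinearMap.ext fun m => by
        obtain ⟨v, rfl⟩ := hsurj m
        show act (g * h) (π v) = act g (act h (π v))
        rw [hact, hact, hact, map_mul, MulAut.mul_apply] }
  refine ⟨ρ, hact, le_antisymm ?_ ?_⟩
  · -- elements of coprime order with trivial action are trivial
    have hker : ∀ g ∈ ρ.ker, (orderOf g).Coprime p → g = 1 := by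
      intro g hρ hg
      have h1 : zpowers g ≤ ρ.ker := zpowers_le.2 hρ
      have hcop : (Nat.card (zpowers g)).Coprime (Nat.card (frattini R)) := by
        obtain ⟨j, hj⟩ := (hRp.to_subgroup (frattini R)).exists_card_eq
        rw [Nat.card_zpowers, hj]
        exact Nat.Coprime.pow_right j hg
      have h2 := Coprime.le_centralizer_of_trivial_mod_frattini (A := zpowers g) (K := R)
        le_normalizer_of_normal hcop (fun y hy v hv => by
          have h3 : act y (π ⟨v, hv⟩) = π ⟨v, hv⟩ := LinearMap.congr_fun (h1 hy : ρ y = 1) (π ⟨v, hv⟩)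
          rw [hact] at h3
          have h4 : MulAut.conjNormal y (⟨v, hv⟩ : R) * (⟨v, hv⟩ : R)⁻¹ ∈ frattini R := by
            rw [← hπker, hπ, hπinv, h3, add_neg_cancel]
          exact ⟨_, h4, by simp⟩)
      obtain ⟨j, hj⟩ := IsPGroup.iff_orderOf.1 hRp ⟨g, hself (h2 (mem_zpowers g))⟩
      rw [orderOf_mk] at hj
      rw [hj] at hg
      rcases Nat.eq_zero_or_pos j with rfl | hj0
      · rwa [pow_zero, orderOf_eq_one_iff] at hj
      · exact absurd hg (hp.out.coprime_iff_not_dvd.not.2 (not_not.2 (dvd_pow_self p hj0.ne')) ∘ Nat.Coprime.symm)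
    have hP : IsPGroup p ρ.ker := by
      intro g
      obtain ⟨k, m, hm, hkm⟩ := Nat.exists_eq_pow_mul_and_not_dvd (orderOf_pos (g : G)).ne' p hp.out.ne_one
      refine ⟨k, Subtype.ext ?_⟩
      rw [SubgroupClass.coe_pow, OneMemClass.coe_one]
      refine hker _ (pow_mem g.2 _) ?_
      rw [orderOf_pow' _ (pow_pos hp.out.pos k).ne', hkm, Nat.gcd_eq_right (dvd_mul_right _ _),
        Nat.mul_div_cancel_left _ (pow_pos hp.out.pos k)]
      exact (hp.out.coprime_iff_not_dvd.2 hm).symm
    rw [hR]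
    exact Core.le_pCore hP
  · intro r hr
    refine MonoidHom.mem_ker.2 (LinearMap.ext fun m => ?_)
    obtain ⟨v, rfl⟩ := hsurj m
    show act r (π v) = π v
    rw [hact]
    have h : MulAut.conjNormal r v = (⟨r, hr⟩ : R) * v * (⟨r, hr⟩ : R)⁻¹ := Subtype.ext (by simp)
    rw [h, hπ, hπ, hπinv, add_neg_cancel_comm]

/-- The Frattini quotient of `O_p` as a faithful module for the quotient by `O_p`. -/
theorem exists_frattini_module (hG : Cfsg.IsPSolvable p G) (hO : Cfsg.pPrimeCore p G = ⊥) :
    ∃ (V : Type u) (_ : AddCommGroup V) (_ : Module (ZMod p) V) (_ : Finite V)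
      (π : ↥(Cfsg.pCore p G) → V) (ρ : G →* Module.End (ZMod p) V)
      (ρ' : G ⧸ Cfsg.pCore p G →* Module.End (ZMod p) V),
      (∀ v w, π (v * w) = π v + π w) ∧ Function.Surjective π ∧
      (∀ g v, ρ g (π v) = π (MulAut.conjNormal g v)) ∧
      (∀ g, ρ' (QuotientGroup.mk g) = ρ g) ∧ Function.Injective ρ' := by
  have hRp : IsPGroup p (Cfsg.pCore p G) := Core.pCore_isPGroup
  have : Group.IsNilpotent (Cfsg.pCore p G) := hRp.isNilpotent
  set F := frattini ↥(Cfsg.pCore p G)
  have hc : IsMulCommutative (↥(Cfsg.pCore p G) ⧸ F) :=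
    Subgroup.Normal.quotient_commutative_iff_commutator_le.mpr Core.commutator_le_frattini
  letI : CommGroup (↥(Cfsg.pCore p G) ⧸ F) :=
    { (inferInstance : Group (↥(Cfsg.pCore p G) ⧸ F)) with mul_comm := hc.is_comm.comm }
  letI : Module (ZMod p) (Additive (↥(Cfsg.pCore p G) ⧸ F)) :=
    AddCommGroup.zmodModule fun m => by
      obtain ⟨v, hv⟩ := QuotientGroup.mk'_surjective F (Additive.toMul m)
      apply Additive.toMul.injective
      rw [toMul_nsmul, ← hv, ← map_pow]
      exact (QuotientGroup.eq_one_iff _).2 (Core.pow_mem_frattini hRp v)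
  let π : ↥(Cfsg.pCore p G) → Additive (↥(Cfsg.pCore p G) ⧸ F) :=
    fun v => Additive.ofMul (QuotientGroup.mk' F v)
  have hπ : ∀ v w, π (v * w) = π v + π w := fun v w => by
    simp only [π, map_mul]; rfl
  have hsurj : Function.Surjective π := fun m =>
    (QuotientGroup.mk'_surjective F (Additive.toMul m)).imp fun v hv => congrArg Additive.ofMul hv
  obtain ⟨ρ, hρ, hker⟩ := exists_action_of_presentation (V := Additive (↥(Cfsg.pCore p G) ⧸ F))
    (Cfsg.pCore p G) rfl π hπ hsurj (fun v => QuotientGroup.eq_one_iff v) hG hO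
  refine ⟨_, inferInstance, inferInstance, inferInstance, π, ρ,
    QuotientGroup.lift (Cfsg.pCore p G) ρ hker.ge, hπ, hsurj, hρ, fun g => rfl, ?_⟩
  rw [← MonoidHom.ker_eq_bot_iff, eq_bot_iff]
  intro y hy
  obtain ⟨g, rfl⟩ := QuotientGroup.mk_surjective y
  exact Subgroup.mem_bot.2 ((QuotientGroup.eq_one_iff g).2 (hker.le hy))

omit [Finite G] in
/-- Powers of a product, read in the module. -/
theorem exists_mul_pow {V : Type*} [AddCommGroup V] [Module (ZMod p) V] {R : Subgroup G} [R.Normal]
    {π : ↥R → V} {ρ : G →* Module.End (ZMod p) V} (hπ : ∀ v w, π (v * w) = π v + π w)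
    (hρ : ∀ g v, ρ g (π v) = π (MulAut.conjNormal g v)) (v : R) (y : G) (i : ℕ) :
    ∃ w : R, ((v : G) * y) ^ i = (w : G) * y ^ i ∧
      π w = (∑ j ∈ Finset.range i, ρ (y ^ j)) (π v) := by
  induction i with
  | zero =>
    refine ⟨1, by simp, ?_⟩
    have h1 := hπ 1 1
    rw [mul_one] at h1
    rw [Finset.range_zero, Finset.sum_empty, LinearMap.zero_apply]
    exact left_eq_add.1 h1
  | succ i ih =>
    obtain ⟨w, hw1, hw2⟩ := ih
    refine ⟨w * MulAut.conjNormal (y ^ i) v, ?_, ?_⟩
    · rw [pow_succ, hw1, Subgroup.coe_mul, MulAut.conjNormal_apply, pow_succ]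
      group
    · rw [Finset.sum_range_succ, LinearMap.add_apply, ← hw2, hπ, hρ]

end Cfsg.Agent.PLength
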