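import Cfsg.Agent.PLength.QuadraticForm
import Cfsg.Agent.PLength.FrattiniModule
import Cfsg.Agent.PLength.AbelianNorm
import Cfsg.Agent.HallHigman.TheoremB
import Cfsg.Agent.Fusion.Critical
import Cfsg.Agent.S0121

/-!
The `p`-length of a `p`-solvable group is at most the derived length of its Sylow `p`-subgroups,
`p` odd.
-/

set_option autoImplicit false

namespace Cfsg.Agent.PLength

open Subgroup
open scoped commutatorElement

universe u

section three

variable {Y : Type*} [Group Y] [Finite Y] {k : Type*} [Field k] [IsAlgClosed k] [CharP k 3]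
  {V : Type*} [AddCommGroup V] [Module k V] [FiniteDimensional k V]

/-- Quadratic commutators of a `3`-group centralise the `2`-groups of class two on which it acts. -/
theorem commutator_mem_centralizer_of_quadratic (ρ : Y →* Module.End k V) (hinj : Function.Injective ρ)
    {C B A : Subgroup Y} (hBC : B ≤ normalizer (C : Set Y)) (hB : IsPGroup 3 B) (hC : IsPGroup 2 C)
    (hclass : ∀ s ∈ C, ∀ t ∈ C, ∀ d ∈ C, Commute ⁅s, t⁆ d)
    (hsq : ∀ s ∈ C, ∀ d ∈ C, Commute (s * s) d) [IsMulCommutative A] (hAB : A ≤ B)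
    (hBA : B ≤ normalizer (A : Set Y)) (hcomm : ∀ b ∈ B, ∀ c ∈ B, ⁅b, c⁆ ∈ A)
    (hquad : ∀ a ∈ A, (ρ a - 1) * (ρ a - 1) = 0)
    (hUB : ∀ a ∈ A, ∀ b ∈ B, (ρ a - 1) * ((ρ b - 1) * (ρ b - 1)) = 0)
    {b c : Y} (hb : b ∈ B) (hc : c ∈ B) : ⁅b, c⁆ ∈ centralizer (C : Set Y) := by
  classical
  haveI : Fact (Nat.Prime 3) := ⟨Nat.prime_three⟩
  set a := ⁅b, c⁆ with hadef
  have haA : a ∈ A := hcomm b hb c hc
  have h3 : (3 : k) = 0 := by exact_mod_cast CharP.cast_eq_zero k 3
  have h3V : ∀ v : V, v + v + v = 0 := fun v => by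
    have h : ((3 : k)) • v = 0 := by rw [h3, zero_smul]
    rw [← h, show (3 : k) = 1 + 1 + 1 by norm_num, add_smul, add_smul, one_smul]
  have hexp : ∀ a ∈ A, a ^ 3 = 1 := fun a ha => hinj (by
    rw [map_one, map_pow]
    refine LinearMap.ext fun v => ?_
    have h1 := LinearMap.congr_fun (hquad a ha) v
    have h2 := LinearMap.congr_fun (hquad a ha) (ρ a v)
    simp only [Module.End.mul_apply, LinearMap.sub_apply, Module.End.one_apply, map_sub,
      LinearMap.zero_apply] at h1 h2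
    rw [pow_succ, pow_succ, pow_one, Module.End.mul_apply, Module.End.mul_apply, Module.End.one_apply]
    have e := h3V (ρ a v - v)
    rw [← sub_eq_zero]
    calc ρ a (ρ a (ρ a v)) - v
        = (ρ a (ρ a (ρ a v)) - ρ a (ρ a v) - (ρ a (ρ a v) - ρ a v))
          + (ρ a (ρ a v) - ρ a v - (ρ a v - v)) + (ρ a (ρ a v) - ρ a v - (ρ a v - v))
          + ((ρ a v - v) + (ρ a v - v) + (ρ a v - v)) := by abel
      _ = 0 := by rw [h2, h1, e]; simp)
  have hnorm : ∀ a ∈ A, ∑ j ∈ Finset.range (3 ^ 1), ρ (a ^ j) = 0 := fun a ha => by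
    refine LinearMap.ext fun v => ?_
    have h1 := LinearMap.congr_fun (hquad a ha) v
    simp only [Module.End.mul_apply, LinearMap.sub_apply, Module.End.one_apply, map_sub,
      LinearMap.zero_apply] at h1
    rw [pow_one, Finset.sum_range_succ, Finset.sum_range_succ, Finset.sum_range_one, pow_zero,
      pow_one, pow_two, map_one, map_mul, LinearMap.add_apply, LinearMap.add_apply,
      Module.End.one_apply, Module.End.mul_apply, LinearMap.zero_apply]
    calc v + ρ a v + ρ a (ρ a v)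
        = (ρ a (ρ a v) - ρ a v - (ρ a v - v)) + (ρ a v + ρ a v + ρ a v) := by abel
      _ = 0 := by rw [h1, h3V, add_zero]
  have hCcard : ((Nat.card C : ℕ) : k) ≠ 0 := by
    obtain ⟨j, hj⟩ := IsPGroup.iff_card.1 hC
    rw [hj, Nat.cast_pow]
    refine pow_ne_zero j fun h => absurd ((CharP.cast_eq_zero_iff k 3 2).1 h) (by decide)
  have hfix : ∀ a ∈ A, ∀ D : Subgroup Y, D ≤ C → IsMulCommutative D → a ∈ normalizer (D : Set Y) →
      ∀ d ∈ D, Commute a d := by
    intro a ha D hDC hDc haD d hd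
    by_contra hne
    haveI := hDc
    obtain ⟨v, hv⟩ : ∃ v : V, ρ (a * d * a⁻¹ * d⁻¹) v ≠ v := by
      by_contra hall
      push Not at hall
      exact hne (mul_inv_eq_iff_eq_mul.1 (mul_inv_eq_one.1 (hinj ((LinearMap.ext hall).trans (map_one ρ).symm))))
    haveI : Nontrivial V := ⟨⟨_, _, hv⟩⟩
    refine norm_ne_zero_closed (p := 3) (n := 1) ρ D (m := Nat.card D) (fun h => hCcard ?_)
      (fun a => pow_card_eq_one') haD le_rfl (by rw [pow_one]; exact hexp a ha) hd ?_ (hnorm a ha)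
    · obtain ⟨r, hr⟩ := card_dvd_of_le hDC
      rw [hr, Nat.cast_mul, h, zero_mul]
    · simp only [Nat.sub_self, pow_zero, pow_one]
      exact fun h => hv (LinearMap.congr_fun h v)
  set Z := C ⊓ centralizer (C : Set Y) with hZ
  haveI hZc : IsMulCommutative Z := IsMulCommutative.of_setLike_mul_comm fun a ha b hb =>
    mem_centralizer_iff.1 hb.2 a ha.1
  have hBZ : B ≤ normalizer (Z : Set Y) :=
    Coprime.le_normalizer_inf hBC (Coprime.le_normalizer_centralizer hBC)
  have hconjC : ∀ g ∈ B, ∀ s ∈ C, g * s * g⁻¹ ∈ C := fun g hg s hs =>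
    (mem_normalizer_iff.1 (hBC hg) s).1 hs
  have hcommZ : ∀ s ∈ C, ∀ t ∈ C, ⁅s, t⁆ ∈ Z := fun s hs t ht => by
    refine ⟨?_, mem_centralizer_iff.2 fun d hd => (hclass s hs t ht d hd).symm⟩
    rw [commutatorElement_def]
    exact C.mul_mem (C.mul_mem (C.mul_mem hs ht) (C.inv_mem hs)) (C.inv_mem ht)
  rw [mem_centralizer_iff]
  by_contra hnc
  push Not at hnc
  obtain ⟨u, hu, hne⟩ := hnc
  set u₁ := a * u * a⁻¹ with hu₁
  have hu₁C : u₁ ∈ C := hconjC a (hAB haA) u hu
  -- a commutator in the centre which is moved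
  have hw : ⁅u, u₁⁆ ≠ 1 := by
    intro h
    have hc01 : Commute u u₁ := commutatorElement_eq_one_iff_commute.1 h
    set u₂ := a * u₁ * a⁻¹ with hu₂
    have hc12 : Commute u₁ u₂ := (Commute.conj_iff a).2 hc01
    have hback : a * u₂ * a⁻¹ = u := by
      rw [hu₂, hu₁, show a * (a * (a * u * a⁻¹) * a⁻¹) * a⁻¹ = a ^ 3 * u * (a ^ 3)⁻¹ by
        simp [pow_succ, mul_assoc], hexp a haA]
      simp
    have hc20 : Commute u₂ u := by
      have h1 := (Commute.conj_iff a).2 hc12
      rwa [← hu₂, hback] at h1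
    set O : Set Y := {u, u₁, u₂} with hO
    have hOC : closure O ≤ C := by
      rw [closure_le]
      rintro x (rfl | rfl | rfl)
      exacts [hu, hu₁C, hconjC a (hAB haA) _ hu₁C]
    have hOc : ∀ x ∈ O, ∀ y ∈ O, Commute x y := by
      rintro x (rfl | rfl | rfl) y (rfl | rfl | rfl)
      exacts [Commute.refl _, hc01, hc20.symm, hc01.symm, Commute.refl _, hc12, hc20, hc12.symm, Commute.refl _]
    have hDc : IsMulCommutative (closure O) := by
      have h1 : closure O ≤ centralizer (closure O : Set Y) := by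
        rw [le_centralizer_iff, closure_le]
        intro x hx
        rw [SetLike.mem_coe, mem_centralizer_iff]
        intro x' hx'
        have h2 : closure O ≤ centralizer ({x} : Set Y) := by
          rw [closure_le]
          exact fun x'' hx'' => mem_centralizer_singleton_iff.2 (hOc x'' hx'' x hx)
        exact mem_centralizer_singleton_iff.1 (h2 hx')
      exact IsMulCommutative.of_setLike_mul_comm fun a ha b hb => mem_centralizer_iff.1 (h1 hb) a ha
    have haD : a ∈ normalizer (closure O : Set Y) := by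
      rw [mem_normalizer_iff_map_conj_eq]
      refine Subgroup.eq_of_le_of_card_ge ?_ (card_map_of_injective (MulAut.conj a).injective).ge
      rw [MonoidHom.map_closure, closure_le]
      rintro _ ⟨x, hx, rfl⟩
      rcases hx with rfl | rfl | rfl
      · exact subset_closure (Or.inr (Or.inl rfl))
      · exact subset_closure (Or.inr (Or.inr rfl))
      · exact subset_closure (Or.inl hback)
    exact hne (hfix a haA _ hOC hDc haD u (subset_closure (Or.inl rfl))).symm.eq
  obtain ⟨v, hv⟩ : ∃ v : V, ρ ⁅u, u₁⁆ v ≠ v := by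
    by_contra hall
    push Not at hall
    exact hw (hinj ((LinearMap.ext hall).trans (map_one ρ).symm))
  haveI : Nontrivial V := ⟨⟨_, _, hv⟩⟩
  obtain ⟨lam, hlam, v₀, hv₀, hev⟩ := exists_eigenchar ρ Z ⟨_, hcommZ u hu u₁ hu₁C⟩
    (m := Nat.card C) hCcard (Subtype.ext (by
      rw [SubgroupClass.coe_pow]
      exact congrArg Subtype.val (pow_card_eq_one' (x := (⟨⁅u, u₁⁆, (hcommZ u hu u₁ hu₁C).1⟩ : C)))))
    (fun h => hv (LinearMap.congr_fun h v))
  -- the eigenspace
  let E : Set V := {v | ∀ z : Z, ρ z v = lam z • v}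
  have hEC : ∀ s ∈ C, ∀ v ∈ E, ρ s v ∈ E := fun s hs v hv z => by
    rw [← Module.End.mul_apply, ← map_mul, show (z : Y) * s = s * z from
      (mem_centralizer_iff.1 z.2.2 s hs).symm, map_mul, Module.End.mul_apply, hv z, map_smul]
  have hAZ : ∀ a ∈ A, ∀ z ∈ Z, Commute a z := fun a ha z hz =>
    hfix a ha Z inf_le_left hZc (hBZ (hAB ha)) z hz
  -- the stabiliser of the character
  have hmem : ∀ g ∈ B, ∀ z : Z, g⁻¹ * (z : Y) * g ∈ Z := fun g hg z => by
    have h := (mem_normalizer_iff.1 (hBZ (inv_mem hg)) z).1 z.2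
    rwa [inv_inv] at h
  have hstab : ∀ g, ∀ hg : g ∈ B, ∀ z : Z, lam ⟨g⁻¹ * z * g, hmem g hg z⟩ = lam z := by
    intro g hg
    by_contra hall
    push Not at hall
    obtain ⟨z₁, hz₁⟩ := hall
    obtain ⟨z₂, hz₂⟩ : ∃ z : Z, lam ⟨(g * g)⁻¹ * z * (g * g), hmem _ (mul_mem hg hg) z⟩ ≠ lam z := by
      by_contra hall
      push Not at hall
      let St : Subgroup B :=
        { carrier := {x | ∀ z : Z, lam ⟨(x : Y)⁻¹ * z * (x : Y), hmem _ x.2 z⟩ = lam z}
          mul_mem' := fun {x y} hx hy z => by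
            refine Eq.trans ?_ ((hy ⟨(x : Y)⁻¹ * z * (x : Y), hmem _ x.2 z⟩).trans (hx z))
            congr 2
            simp [mul_assoc]
          one_mem' := fun z => by congr 1; ext; simp
          inv_mem' := fun {x} hx z => by
            refine Eq.trans (hx _).symm ?_
            congr 2
            simp [mul_assoc] }
      have h2 : (⟨g * g, mul_mem hg hg⟩ : B) ∈ St := hall
      obtain ⟨j, hj⟩ := IsPGroup.iff_orderOf.1 hB ⟨g, hg⟩
      obtain ⟨r, hr⟩ : ∃ r, 3 ^ j + 1 = 2 * r := by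
        obtain ⟨r, hr⟩ := (show Odd 3 by decide).pow (n := j)
        exact ⟨r + 1, by omega⟩
      have h1 : (⟨g, hg⟩ : B) = (⟨g, hg⟩ * ⟨g, hg⟩) ^ r := by
        rw [← pow_two, ← pow_mul, ← hr, pow_succ, ← hj, pow_orderOf_eq_one, one_mul]
      have h4 : (⟨g, hg⟩ : B) ∈ St := by
        rw [h1]
        exact pow_mem h2 r
      exact hz₁ (h4 z₁)
    have hU : ∀ v ∈ E, ρ a v = v := by
      intro v hv
      have hzero := LinearMap.congr_fun (hUB a haA g hg) v
      simp only [Module.End.mul_apply, LinearMap.sub_apply, Module.End.one_apply, map_sub,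
        LinearMap.zero_apply] at hzero
      set U : Module.End k V := ρ a - 1 with hUdef
      have hUapp : ∀ x, U x = ρ a x - x := fun x => rfl
      have hsum : U (ρ (g * g) v) + U (ρ g v) + U v = 0 := by
        rw [map_mul, Module.End.mul_apply, hUapp, hUapp, hUapp]
        have e := h3V (ρ a (ρ g v) - ρ g v)
        linear_combination (norm := module) hzero + e
      have hUz : ∀ (z : Z) (x : V), ρ z (U x) = U (ρ z x) := fun z x => by
        rw [hUapp, hUapp, map_sub, ← Module.End.mul_apply, ← map_mul, ← (hAZ a haA z z.2).eq,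
          map_mul, Module.End.mul_apply]
      have hmove : ∀ x, ∀ hx : x ∈ B, ∀ z : Z, ρ z (U (ρ x v)) = lam ⟨x⁻¹ * z * x, hmem x hx z⟩ • U (ρ x v) :=
        fun x hx z => by
          rw [hUz, ← map_smul, ← map_smul, ← hv]
          refine congrArg U ?_
          rw [← Module.End.mul_apply, ← map_mul, ← Module.End.mul_apply, ← map_mul]
          congr 2
          show (z : Y) * x = x * (x⁻¹ * z * x)
          group
      have h0 : ∀ z : Z, ρ z (U v) = lam z • U v := fun z => by rw [hUz, hv, map_smul]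
      have h1 := congrArg (fun x => ρ z₁ x - lam ⟨g⁻¹ * z₁ * g, hmem g hg z₁⟩ • x) hsum
      simp only [map_add, h0, hmove _ hg, hmove _ (mul_mem hg hg), map_zero, smul_zero, sub_zero,
        smul_add] at h1
      have h2 := congrArg (fun x => ρ z₂ x - lam ⟨(g * g)⁻¹ * z₂ * (g * g), hmem _ (mul_mem hg hg) z₂⟩ • x) h1
      simp only [map_add, map_sub, map_smul, h0, hmove _ hg, hmove _ (mul_mem hg hg), map_zero, smul_zero,
        sub_zero, smul_add, smul_sub, smul_smul] at h2
      have hfin : ((lam z₁ - lam ⟨g⁻¹ * z₁ * g, hmem g hg z₁⟩) *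
          (lam z₂ - lam ⟨(g * g)⁻¹ * z₂ * (g * g), hmem _ (mul_mem hg hg) z₂⟩)) • U v = 0 := by
        rw [← h2]
        module
      rw [smul_eq_zero, mul_eq_zero] at hfin
      rcases hfin with (h | h) | h
      · exact absurd (sub_eq_zero.1 h).symm hz₁
      · exact absurd (sub_eq_zero.1 h).symm hz₂
      · exact sub_eq_zero.1 ((hUapp v) ▸ h)
    -- then `a` centralises `u` on the eigenspace
    refine hlam (smul_left_injective k hv₀ ?_)
    show lam _ • v₀ = (1 : k) • v₀
    rw [one_smul, ← hev]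
    show ρ ⁅u, u₁⁆ v₀ = v₀
    have hinvE : ∀ x ∈ E, ρ a⁻¹ x = x := fun x hx => by
      conv_lhs => rw [← hU x hx, ← Module.End.mul_apply, ← map_mul, inv_mul_cancel, map_one, Module.End.one_apply]
    have hsame : ∀ x ∈ E, ρ u₁ x = ρ u x := fun x hx => by
      rw [hu₁, map_mul, map_mul, Module.End.mul_apply, Module.End.mul_apply, hinvE x hx, hU _ (hEC u hu x hx)]
    have hsame' : ∀ x ∈ E, ρ u₁⁻¹ x = ρ u⁻¹ x := fun x hx => by
      rw [hu₁, conj_inv, map_mul, map_mul, Module.End.mul_apply, Module.End.mul_apply, hinvE x hx,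
        hU _ (hEC _ (C.inv_mem hu) x hx)]
    rw [commutatorElement_def, map_mul, map_mul, map_mul, Module.End.mul_apply, Module.End.mul_apply,
      Module.End.mul_apply, hsame' v₀ hev,
      hsame _ (hEC _ (C.inv_mem hu) _ (hEC _ (C.inv_mem hu) v₀ hev))]
    simp only [← Module.End.mul_apply, ← map_mul]
    simp
  -- the form
  have hsign : ∀ s t : C, lam ⟨⁅(s : Y), (t : Y)⁆, hcommZ s s.2 t t.2⟩ = 1 ∨
      lam ⟨⁅(s : Y), (t : Y)⁆, hcommZ s s.2 t t.2⟩ = -1 := fun s t => by
    rw [← mul_self_eq_one_iff, ← map_mul]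
    convert map_one lam
    ext
    show ⁅(s : Y), (t : Y)⁆ * ⁅(s : Y), (t : Y)⁆ = 1
    have h1 : ⁅(s : Y), (t : Y) * t⁆ = 1 :=
      commutatorElement_eq_one_iff_commute.2 (hsq t t.2 s s.2).symm
    rw [← h1, show ⁅(s : Y), (t : Y) * t⁆ = ⁅(s : Y), (t : Y)⁆ * ((t : Y) * ⁅(s : Y), (t : Y)⁆ * (t : Y)⁻¹) by
      simp only [commutatorElement_def]; group, ← (hclass s s.2 t t.2 t t.2).eq, mul_inv_cancel_right]
  have hne1 : (-1 : k) ≠ 1 := fun h => one_ne_zero (α := k) (by linear_combination (1 : k) * h + h3)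
  let e : C → C → ZMod 2 := fun s t => if lam ⟨⁅(s : Y), (t : Y)⁆, hcommZ s s.2 t t.2⟩ = 1 then 0 else 1
  have he : ∀ s t : C, lam ⟨⁅(s : Y), (t : Y)⁆, hcommZ s s.2 t t.2⟩ = if e s t = 0 then 1 else -1 := fun s t => by
    rcases hsign s t with h | h <;> simp [e, h, hne1]
  have heq : ∀ {x y : ZMod 2}, (if x = 0 then (1 : k) else -1) = (if y = 0 then 1 else -1) → x = y := by
    intro x y
    have hc : ∀ x : ZMod 2, x = 0 ∨ x = 1 := by decide
    rcases hc x with rfl | rfl <;> rcases hc y with rfl | rfl <;> simp [hne1, hne1.symm]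
  have hmulif : ∀ x y : ZMod 2, (if x + y = 0 then (1 : k) else -1) =
      (if x = 0 then 1 else -1) * (if y = 0 then 1 else -1) := by
    intro x y
    have hc : ∀ x : ZMod 2, x = 0 ∨ x = 1 := by decide
    rcases hc x with rfl | rfl <;> rcases hc y with rfl | rfl <;>
      simp [show (1 : ZMod 2) + 1 = 0 by decide]
  have hadd : ∀ s t u, e (s * t) u = e s u + e t u := fun s t u => heq (by
    rw [hmulif, ← he, ← he, ← he, ← map_mul]
    congr 1
    ext
    show ⁅(s : Y) * t, (u : Y)⁆ = ⁅(s : Y), (u : Y)⁆ * ⁅(t : Y), (u : Y)⁆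
    rw [show ⁅(s : Y) * t, (u : Y)⁆ = (s : Y) * ⁅(t : Y), (u : Y)⁆ * (s : Y)⁻¹ * ⁅(s : Y), (u : Y)⁆ by
      simp only [commutatorElement_def]; group, ← (hclass t t.2 u u.2 s s.2).eq, mul_inv_cancel_right,
      (hclass t t.2 u u.2 _ (hcommZ s s.2 u u.2).1).eq])
  have hadd' : ∀ s t u, e s (t * u) = e s t + e s u := fun s t u => heq (by
    rw [hmulif, ← he, ← he, ← he, ← map_mul]
    congr 1
    ext
    show ⁅(s : Y), (t : Y) * u⁆ = ⁅(s : Y), (t : Y)⁆ * ⁅(s : Y), (u : Y)⁆
    rw [show ⁅(s : Y), (t : Y) * u⁆ = ⁅(s : Y), (t : Y)⁆ * ((t : Y) * ⁅(s : Y), (u : Y)⁆ * (t : Y)⁻¹) by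
      simp only [commutatorElement_def]; group, ← (hclass s s.2 u u.2 t t.2).eq, mul_inv_cancel_right])
  have halt : ∀ t, e t t = 0 := fun t =>
    if_pos ((congrArg lam (Subtype.ext (commutatorElement_self _))).trans (map_one lam))
  let ψ : ↥B →* MulAut ↥C := C.normalizerMonoidHom.comp (Subgroup.inclusion hBC)
  have hψ : ∀ (g : B) (s : C), (ψ g s : Y) = g * s * (g : Y)⁻¹ := fun _ _ => rfl
  have hinv : ∀ g s t, e (ψ g s) (ψ g t) = e s t := fun g s t => heq (by
    rw [← he, ← he, ← hstab g g.2 ⟨⁅(ψ g s : Y), (ψ g t : Y)⁆, hcommZ _ (ψ g s).2 _ (ψ g t).2⟩]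
    congr 1
    ext
    show (g : Y)⁻¹ * ⁅(ψ g s : Y), (ψ g t : Y)⁆ * g = ⁅(s : Y), (t : Y)⁆
    rw [hψ, hψ]
    simp only [commutatorElement_def]
    group)
  haveI : (A.subgroupOf B).Normal := normal_subgroupOf_of_le_normalizer hBA
  haveI : IsMulCommutative (A.subgroupOf B) := IsMulCommutative.of_setLike_mul_comm fun x hx y hy =>
    Subtype.ext (setLike_mul_comm (s := A) hx hy)
  have happB : ∀ (s t : C) (x : V), x ∈ E →
      ρ (s : Y) (ρ (t : Y) x) = (if e s t = 0 then (1 : k) else -1) • ρ (t : Y) (ρ (s : Y) x) := by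
    intro s t x hx
    rw [← he, ← hEC t t.2 _ (hEC s s.2 x hx) ⟨⁅(s : Y), (t : Y)⁆, hcommZ s s.2 t t.2⟩,
      ← Module.End.mul_apply, ← map_mul, ← Module.End.mul_apply, ← map_mul, ← Module.End.mul_apply, ← map_mul]
    congr 2
    simp only [commutatorElement_def]
    group
  have hkey : ∀ x ∈ A.subgroupOf B, ∀ t t' : C,
      (∀ i j : ℕ, e (ψ (x ^ i) t) (ψ (x ^ j) t') = 0) → e t (ψ x t) = 0 ∨ e t' (ψ x t') = 0 := by
    intro x hx t t' horth
    by_contra hor
    push Not at hor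
    have hcase : ∀ x : ZMod 2, x ≠ 0 → x = 1 := by decide
    have hx3 : x ^ 3 = 1 := Subtype.ext (by rw [SubgroupClass.coe_pow]; exact hexp (x : Y) hx)
    set U : Module.End k V := ρ (x : Y) - 1 with hUdef
    have hUU : U * U = 0 := hquad _ hx
    have hUa : ρ (x : Y) * U = U * ρ (x : Y) := by rw [hUdef, mul_sub, sub_mul, mul_one, one_mul]
    let S : C → Module.End k V := fun t =>
      ρ (t : Y) + ρ (ψ x t : Y) + ρ (ψ x (ψ x t) : Y)
    have hS : ∀ t : C, S t = U * ρ (t : Y) * U * ρ (x : Y) := by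
      intro t
      have hxx : ρ ((x : Y)⁻¹) = ρ (x : Y) * ρ (x : Y) := by
        rw [← map_mul]
        congr 1
        refine inv_eq_of_mul_eq_one_right ?_
        rw [← mul_assoc, ← pow_two, ← pow_succ, hexp (x : Y) hx]
      simp only [S, hψ, map_mul, hxx]
      refine LinearMap.ext fun y => ?_
      have h1 := fun z => LinearMap.congr_fun hUU z
      simp only [hUdef, Module.End.mul_apply, LinearMap.sub_apply, LinearMap.add_apply,
        Module.End.one_apply, map_sub, LinearMap.zero_apply] at h1 ⊢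
      have hz : ∀ z, ρ (x : Y) (ρ (x : Y) z) = ρ (x : Y) z + ρ (x : Y) z - z := fun z => by
        rw [← sub_eq_zero, ← h1 z]; abel
      simp only [hz, map_add, map_sub]
      have e1 := h3V (ρ (x : Y) (ρ (t : Y) (ρ (x : Y) y)))
      have e2 := h3V (ρ (t : Y) y)
      have e3 := h3V (ρ (x : Y) (ρ (t : Y) y))
      have e4 := h3V (ρ (t : Y) (ρ (x : Y) y))
      rw [← sub_eq_zero]
      linear_combination (norm := module) (3 : k) • e1 + e2 - (2 : k) • e3 - e4
    have hkill : ∀ t : C, e t (ψ x t) = 1 → ∀ y ∈ E, S t y = 0 → S t (ρ (t : Y) y) = 0 → y = 0 := by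
      intro t ht y hy h1 h2
      have ht2 : e t (ψ x (ψ x t)) = 1 := by
        rw [← hinv x, ← MulAut.mul_apply, ← MulAut.mul_apply, ← map_mul, ← map_mul,
          show x * x * x = 1 by rw [← hx3]; simp [pow_succ], map_one, MulAut.one_apply,
          QuadraticForm.symm_e hadd hadd' halt]
        exact ht
      have h1' := congrArg (ρ (t : Y)) h1
      simp only [S, LinearMap.add_apply, map_add, map_zero] at h1' h2
      rw [happB t (ψ x t) y hy, happB t (ψ x (ψ x t)) y hy, ht, ht2, if_neg one_ne_zero,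
        neg_one_smul, neg_one_smul] at h1'
      have h3' : ρ (t : Y) (ρ (t : Y) y) = 0 := by
        rw [← neg_eq_zero]
        linear_combination (norm := module) h1' + h2 - h3V (ρ (t : Y) (ρ (t : Y) y))
      have h4 := congrArg (ρ ((t : Y) * t)⁻¹) h3'
      rwa [← Module.End.mul_apply, ← Module.End.mul_apply, ← map_mul, ← map_mul, mul_assoc,
        inv_mul_cancel, map_one, Module.End.one_apply, map_zero] at h4
    have hcm : ∀ y ∈ E, S t' (ρ (t : Y) y) = ρ (t : Y) (S t' y) := by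
      intro y hy
      have hpow : ∀ j : ℕ, e t (ψ (x ^ j) t') = 0 := fun j => by
        simpa using horth 0 j
      simp only [S, LinearMap.add_apply, map_add]
      congr 1
      · congr 1
        · rw [happB t t' y hy, show e t t' = 0 by simpa using hpow 0, if_pos rfl, one_smul]
        · rw [happB t (ψ x t') y hy, show e t (ψ x t') = 0 by simpa using hpow 1, if_pos rfl, one_smul]
      · rw [happB t (ψ x (ψ x t')) y hy, show e t (ψ x (ψ x t')) = 0 by
          rw [← MulAut.mul_apply, ← map_mul, ← pow_two]; exact hpow 2, if_pos rfl, one_smul]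
    have hprod : S t * S t' = 0 := by
      rw [hS, hS]
      simp only [mul_assoc]
      rw [← mul_assoc (ρ (x : Y)) U, hUa, mul_assoc, ← mul_assoc U U, hUU, zero_mul, mul_zero, mul_zero]
    have hES : ∀ y ∈ E, S t' y ∈ E := fun y hy z => by
      simp only [S, LinearMap.add_apply, map_add, smul_add]
      rw [hEC _ t'.2 y hy z, hEC _ (ψ x t').2 y hy z, hEC _ (ψ x (ψ x t')).2 y hy z]
    have hzero : ∀ y ∈ E, S t' y = 0 := fun y hy =>
      hkill t (hcase _ hor.1) _ (hES y hy) (LinearMap.congr_fun hprod y) (by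
        rw [← hcm y hy]
        exact LinearMap.congr_fun hprod _)
    exact hv₀ (hkill t' (hcase _ hor.2) v₀ hev (hzero v₀ hev) (hzero _ (hEC _ t'.2 v₀ hev)))
  have hfinal := QuadraticForm.commutator_fixes hadd hadd' halt hinv hB (A.subgroupOf B)
    (fun x hx => Subtype.ext (by rw [SubgroupClass.coe_pow]; exact hexp (x : Y) hx))
    (fun b c => hcomm b b.2 c c.2) hkey ⟨b, hb⟩ ⟨c, hc⟩ ⟨u, hu⟩ ⟨u, hu⟩
  rw [halt] at hfinal
  have h1 : lam ⟨⁅u₁, u⁆, hcommZ _ hu₁C _ hu⟩ = 1 := by
    have h := he (ψ ⁅(⟨b, hb⟩ : B), ⟨c, hc⟩⁆ ⟨u, hu⟩) ⟨u, hu⟩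
    rw [if_pos hfinal] at h
    exact h
  refine hlam ?_
  have h2 : (⟨⁅u, u₁⁆, hcommZ u hu u₁ hu₁C⟩ : Z) = (⟨⁅u₁, u⁆, hcommZ _ hu₁C _ hu⟩ : Z)⁻¹ :=
    Subtype.ext (commutatorElement_inv u₁ u).symm
  have h3' : lam (⟨⁅u₁, u⁆, hcommZ _ hu₁C _ hu⟩ : Z)⁻¹ * lam ⟨⁅u₁, u⁆, hcommZ _ hu₁C _ hu⟩ = 1 := by
    rw [← map_mul, inv_mul_cancel, map_one]
  rw [h1, mul_one] at h3'
  rw [h2, h3']

end three

variable {p : ℕ} [hp : Fact p.Prime]

/-- Quadratic commutators of a `p`-group are trivial, `p` odd. -/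
theorem commutator_eq_one_of_quadratic {X : Type u} [Group X] [Finite X] {W : Type u} [AddCommGroup W]
    [Module (ZMod p) W] [Finite W] (hp2 : p ≠ 2) (ρ : X →* Module.End (ZMod p) W)
    (hinj : Function.Injective ρ) {N B A : Subgroup X} [N.Normal] (hNcop : (Nat.card N).Coprime p)
    (hN : centralizer (N : Set X) ≤ N) (hB : IsPGroup p B) [IsMulCommutative A] (hAB : A ≤ B)
    (hBA : B ≤ normalizer (A : Set X)) (hcomm : ∀ b ∈ B, ∀ c ∈ B, ⁅b, c⁆ ∈ A)
    (hquad : ∀ a ∈ A, (ρ a - 1) * (ρ a - 1) = 0)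
    (hUB : ∀ a ∈ A, ∀ b ∈ B, (ρ a - 1) * ((ρ b - 1) * (ρ b - 1)) = 0)
    {b c : X} (hb : b ∈ B) (hc : c ∈ B) : ⁅b, c⁆ = 1 := by
  classical
  by_contra hne
  set a := ⁅b, c⁆ with hadef
  have haA : a ∈ A := hcomm b hb c hc
  haveI : Module.Finite (ZMod p) W := Module.Finite.of_finite
  let bas := Module.finBasis (ZMod p) W
  let k := AlgebraicClosure (ZMod p)
  haveI : CharP k p := charP_of_injective_algebraMap (algebraMap (ZMod p) k).injective p
  let Φ : Module.End (ZMod p) W →+* Module.End k (Fin (Module.finrank (ZMod p) W) → k) :=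
    (Matrix.toLinAlgEquiv' (R := k) (n := Fin (Module.finrank (ZMod p) W))).toAlgHom.toRingHom.comp
      ((algebraMap (ZMod p) k).mapMatrix.comp (LinearMap.toMatrixAlgEquiv bas).toAlgHom.toRingHom)
  have hΦ : Function.Injective Φ :=
    (Matrix.toLinAlgEquiv' (R := k) (n := Fin (Module.finrank (ZMod p) W))).injective.comp
      ((Matrix.map_injective (algebraMap (ZMod p) k).injective).comp (LinearMap.toMatrixAlgEquiv bas).injective)
  let σ : X →* Module.End k (Fin (Module.finrank (ZMod p) W) → k) := Φ.toMonoidHom.comp ρ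
  have hσinj : Function.Injective σ := hΦ.comp hinj
  have hσquad : ∀ a ∈ A, (σ a - 1) * (σ a - 1) = 0 := fun a ha => by
    show (Φ (ρ a) - 1) * (Φ (ρ a) - 1) = 0
    rw [← map_one Φ, ← map_sub, ← map_mul, hquad a ha, map_zero]
  have hσUB : ∀ a ∈ A, ∀ b ∈ B, (σ a - 1) * ((σ b - 1) * (σ b - 1)) = 0 := fun a ha b hb => by
    show (Φ (ρ a) - 1) * ((Φ (ρ b) - 1) * (Φ (ρ b) - 1)) = 0
    rw [← map_one Φ, ← map_sub, ← map_sub, ← map_mul, ← map_mul, hUB a ha b hb, map_zero]
  have hBN : (Nat.card B).Coprime (Nat.card N) := by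
    obtain ⟨j, hj⟩ := IsPGroup.iff_card.1 hB
    rw [hj]
    exact Nat.Coprime.pow_left j hNcop.symm
  have hcN : ¬ N ≤ centralizer ({a} : Set X) := fun hle => hne (by
    have h1 : a ∈ N ⊓ B :=
      ⟨hN (mem_centralizer_iff.2 fun d hd => mem_centralizer_singleton_iff.1 (hle hd)), hAB haA⟩
    rwa [inf_eq_bot_of_coprime hBN.symm, mem_bot] at h1)
  obtain ⟨q, hq, Q, hQB, hQa⟩ : ∃ (q : ℕ) (_ : Fact q.Prime) (Q : Sylow q N),
      B ≤ normalizer ((Q : Subgroup N).map N.subtype : Set X) ∧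
      ¬ (Q : Subgroup N).map N.subtype ≤ centralizer ({a} : Set X) := by
    by_contra hall
    push Not at hall
    refine hcN (subgroupOf_eq_top.1 (index_eq_one.1 ?_))
    by_contra hne'
    obtain ⟨q, hq, hqd⟩ := Nat.exists_prime_and_dvd hne'
    haveI := Fact.mk hq
    obtain ⟨Q, hQ⟩ := Coprime.exists_invariant_sylow (A := B) (K := N) le_normalizer_of_normal hBN
      (Or.inl (haveI := hB.isNilpotent; inferInstance)) q
    exact Q.not_dvd_index (hqd.trans (index_dvd_of_le fun w hw =>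
      hall q ⟨hq⟩ Q hQ (mem_map_of_mem N.subtype hw)))
  haveI := hq
  set Q' := (Q : Subgroup N).map N.subtype with hQ'
  have hQp : IsPGroup q Q' := Q.2.map _
  have hqp : p ≠ q := by
    rintro rfl
    obtain ⟨j, hj⟩ := IsPGroup.iff_card.1 hQp
    have h1 : (Nat.card Q').Coprime p := hNcop.coprime_dvd_left (card_dvd_of_le (map_subtype_le _))
    rcases Nat.eq_zero_or_pos j with rfl | hj0
    · exact hQa (by rw [card_eq_one.1 (by rw [hj, pow_zero] : Nat.card Q' = 1)]; exact bot_le)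
    · rw [hj] at h1
      exact absurd ((Nat.coprime_pow_left_iff hj0 p p).1 h1) (by simp [Nat.coprime_self, hp.out.ne_one])
  have hp3 : 3 ≤ p := by have := hp.out.two_le; omega
  have hsσ : (σ a - 1) ^ 2 = 0 := by rw [pow_two]; exact hσquad a haA
  have hap : a ^ p = 1 := hσinj (by
    haveI : CharP (Module.End k (Fin (Module.finrank (ZMod p) W) → k)) p := by
      haveI : Nontrivial (Fin (Module.finrank (ZMod p) W) → k) := by
        by_contra hV
        rw [not_nontrivial_iff_subsingleton] at hV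
        exact hne (hσinj (LinearMap.ext fun v => Subsingleton.elim _ _))
      exact charP_of_injective_algebraMap
        (algebraMap k (Module.End k (Fin (Module.finrank (ZMod p) W) → k))).injective p
    rw [map_one, map_pow, ← sub_eq_zero]
    have h := sub_pow_char_of_commute p (x := σ a) (y := 1) (Commute.one_right _)
    rw [one_pow] at h
    rw [← h]
    exact pow_eq_zero_of_le hp.out.two_le hsσ)
  have hord : orderOf a = p ^ 1 := by rw [pow_one]; exact orderOf_eq_prime hap hne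
  have hns : ¬ ∀ d ∈ Q', a ^ p ^ (1 - 1) * d = d * a ^ p ^ (1 - 1) := by
    rw [Nat.sub_self, pow_zero, pow_one]
    exact fun h => hQa fun d hd => mem_centralizer_singleton_iff.2 (h d hd).symm
  rcases HallHigman.index_bound hqp σ hσinj hQp (hQB (hAB haA)) le_rfl hord hns hsσ with
    h | ⟨n₀, m, h1, h2, h3, h4, -, h6⟩
  · rw [pow_one] at h; omega
  · obtain rfl : n₀ = 1 := by omega
    rw [pow_one] at h4
    rw [Nat.sub_self, pow_zero, one_mul, pow_one] at h6
    obtain rfl : p = 3 := by omega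
    obtain rfl : q = 2 := by
      have hd : q ∣ 2 := by
        rw [show 2 = q ^ m by omega]
        exact dvd_pow_self q (by omega)
      exact (Nat.prime_dvd_prime_iff_eq hq.out Nat.prime_two).1 hd
    obtain ⟨H, hH, hH1, hH2, hH3, hH4⟩ := Fusion.exists_critical hQp
    haveI := hH
    set C := H.map Q'.subtype with hC
    have hBC : B ≤ normalizer (C : Set X) := fun g hg => by
      rw [mem_normalizer_iff_map_conj_eq]
      have h1 : H.map (Q'.normalizerMonoidHom ⟨g, hQB hg⟩).toMonoidHom = H :=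
        characteristic_iff_map_eq.mp inferInstance _
      conv_rhs => rw [hC, ← h1]
      rw [hC, Subgroup.map_map, Subgroup.map_map]
      rfl
    have hclass : ∀ a ∈ C, ∀ b ∈ C, ∀ d ∈ C, Commute ⁅a, b⁆ d := by
      rintro _ ⟨a, ha, rfl⟩ _ ⟨b, hb, rfl⟩ _ ⟨d, hd, rfl⟩
      rw [← map_commutatorElement]
      refine Commute.map ?_ Q'.subtype
      have h1 := hH1 (commutator_mem_commutator (mem_top (⟨a, ha⟩ : H)) (mem_top ⟨b, hb⟩))
      exact (congrArg Subtype.val (mem_center_iff.1 h1 ⟨d, hd⟩)).symm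
    have hsq : ∀ s ∈ C, ∀ d ∈ C, Commute (s * s) d := by
      rintro _ ⟨s, hs, rfl⟩ _ ⟨d, hd, rfl⟩
      rw [← map_mul]
      refine Commute.map ?_ Q'.subtype
      have hm := Core.pow_mem_frattini (hQp.to_subgroup H) (⟨s, hs⟩ : H)
      rw [pow_two] at hm
      exact (mem_centralizer_iff.1 (hH2 (mem_map_of_mem H.subtype hm)) d hd).symm
    have hcC : a ∈ centralizer (C : Set X) :=
      commutator_mem_centralizer_of_quadratic σ hσinj hBC hB (hQp.to_le (map_subtype_le _)) hclass hsq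
        hAB hBA hcomm hσquad hσUB hb hc
    refine hQa fun w hw => mem_centralizer_singleton_iff.2 ?_
    set α := Q'.normalizerMonoidHom ⟨a, hQB (hAB haA)⟩ with hα
    have hαo : (orderOf α).Coprime 2 := by
      have h1 := orderOf_map_dvd Q'.normalizerMonoidHom (⟨a, hQB (hAB haA)⟩ : normalizer (Q' : Set X))
      rw [orderOf_mk, hord, pow_one] at h1
      exact Nat.Coprime.coprime_dvd_left h1 (by decide)
    have h2 := S0121.result hQp H hH hH2 hH3 hH4 α hαo (fun d hd => Subtype.ext (by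
      show a * (d : X) * a⁻¹ = d
      have h := mem_centralizer_iff.1 hcC _ (mem_map_of_mem Q'.subtype hd)
      rw [show a * (d : X) = (d : X) * a from h.symm, mul_inv_cancel_right]))
    have h3' := congrArg Subtype.val (DFunLike.congr_fun h2 ⟨w, hw⟩)
    exact (mul_inv_eq_iff_eq_mul.1 h3').symm

variable {G : Type u} [Group G] [Finite G]

/-- The last nontrivial derived term of a Sylow subgroup lies in `O_p`. -/
theorem derivedSeries_le_pCore (hp2 : p ≠ 2) (hG : Cfsg.IsPSolvable p G)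
    (hO : Cfsg.pPrimeCore p G = ⊥) (T : Sylow p G) {m : ℕ}
    (hd : derivedSeries ↥(T : Subgroup G) (m + 1) = ⊥) :
    (derivedSeries ↥(T : Subgroup G) m).map (T : Subgroup G).subtype ≤ Cfsg.pCore p G := by
  have hRT : Cfsg.pCore p G ≤ (T : Subgroup G) := Core.pCore_le_sylow T
  rcases m with _ | j
  · rintro _ ⟨x, -, rfl⟩
    refine Layer.pCoreSelfCentral_of_isPSolvable hG hO (mem_centralizer_iff.2 fun r hr => ?_)
    have h : ⁅(⟨r, hRT hr⟩ : (T : Subgroup G)), x⁆ = 1 := by
      rw [← Subgroup.mem_bot, ← hd, derivedSeries_succ]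
      exact commutator_mem_commutator (by simp) (by simp)
    exact congrArg Subtype.val (commutatorElement_eq_one_iff_commute.1 h).eq
  · set P := (T : Subgroup G) with hPdef
    set Bp := derivedSeries ↥P j with hBp
    set Ap := derivedSeries ↥P (j + 1) with hAp
    have hApBp : Ap = ⁅Bp, Bp⁆ := derivedSeries_succ ↥P j
    haveI : Bp.Normal := derivedSeries_normal ↥P j
    haveI : Ap.Normal := derivedSeries_normal ↥P (j + 1)
    have hAc : ∀ x ∈ Ap, ∀ y ∈ Ap, Commute x y := fun x hx y hy => by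
      rw [← commutatorElement_eq_one_iff_commute, ← Subgroup.mem_bot, ← hd, derivedSeries_succ]
      exact commutator_mem_commutator hx hy
    obtain ⟨V, i1, i2, i3, π, ρ, ρ', hπ, hsurj, hρ, hρ', hinj⟩ := exists_frattini_module hG hO
    have hπd : ∀ (g : G) (v : ↥(Cfsg.pCore p G)), ρ g (π v) - π v =
        π (MulAut.conjNormal g v * v⁻¹) := fun g v => by
      have h := hπ (MulAut.conjNormal g v * v⁻¹) v
      rw [inv_mul_cancel_right] at h
      rw [hρ, h, add_sub_cancel_right]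
    have hdiff : ∀ (D : Subgroup P) [D.Normal] (g : P), g ∈ D → ∀ v : ↥(Cfsg.pCore p G),
        ∃ r ∈ D, (r : G) = (MulAut.conjNormal (g : G) v * v⁻¹ : ↥(Cfsg.pCore p G)) := fun D _ g hg v => by
      refine ⟨g * (⟨v, hRT v.2⟩ * g⁻¹ * (⟨v, hRT v.2⟩ : P)⁻¹), D.mul_mem hg
        ((inferInstance : D.Normal).conj_mem _ (inv_mem hg) _), ?_⟩
      simp [mul_assoc]
    set f := QuotientGroup.mk' (Cfsg.pCore p G) with hf
    set F := f.comp P.subtype with hF
    set A := Ap.map F with hA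
    set B := Bp.map F with hB
    haveI : IsMulCommutative A := IsMulCommutative.of_setLike_mul_comm (by
      rintro _ ⟨x, hx, rfl⟩ _ ⟨y, hy, rfl⟩
      exact ((hAc x hx y hy).map F).eq)
    have hBB : ∀ b ∈ B, ∀ c ∈ B, ⁅b, c⁆ ∈ A := by
      rintro _ ⟨x, hx, rfl⟩ _ ⟨y, hy, rfl⟩
      rw [← map_commutatorElement]
      exact mem_map_of_mem F (hApBp ▸ commutator_mem_commutator hx hy)
    have hAle : Ap ≤ Bp := derivedSeries_antitone ↥P (Nat.le_succ j)
    have hquad : ∀ a ∈ A, (ρ' a - 1) * (ρ' a - 1) = 0 := by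
      rintro _ ⟨x, hx, rfl⟩
      refine LinearMap.ext fun w => ?_
      obtain ⟨v, rfl⟩ := hsurj w
      obtain ⟨r, hr, hrv⟩ := hdiff Ap x hx v
      show (ρ' (QuotientGroup.mk (x : G)) - 1) ((ρ' (QuotientGroup.mk (x : G)) - 1) (π v)) = 0
      simp only [LinearMap.sub_apply, Module.End.one_apply, hρ']
      rw [hπd, hρ, sub_eq_zero]
      congr 1
      refine Subtype.ext ?_
      rw [MulAut.conjNormal_apply, ← hrv]
      exact mul_inv_eq_of_eq_mul (congrArg Subtype.val (hAc x hx r hr).eq)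
    have hUB : ∀ a ∈ A, ∀ b ∈ B, (ρ' a - 1) * ((ρ' b - 1) * (ρ' b - 1)) = 0 := by
      rintro _ ⟨x, hx, rfl⟩ _ ⟨y, hy, rfl⟩
      refine LinearMap.ext fun w => ?_
      obtain ⟨v, rfl⟩ := hsurj w
      obtain ⟨r₁, hr₁, hrv₁⟩ := hdiff Bp y hy v
      show (ρ' (QuotientGroup.mk (x : G)) - 1) ((ρ' (QuotientGroup.mk (y : G)) - 1)
        ((ρ' (QuotientGroup.mk (y : G)) - 1) (π v))) = 0
      simp only [LinearMap.sub_apply, Module.End.one_apply, hρ']
      rw [hπd (y : G), hπd (y : G), hρ, sub_eq_zero]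
      congr 1
      refine Subtype.ext ?_
      rw [MulAut.conjNormal_apply]
      have hmem : ((⁅y, r₁⁆ : P) : G) = ((MulAut.conjNormal (y : G)
          (MulAut.conjNormal (y : G) v * v⁻¹) * (MulAut.conjNormal (y : G) v * v⁻¹)⁻¹ :
            ↥(Cfsg.pCore p G)) : G) := by
        simp [hrv₁, commutatorElement_def, mul_assoc]
      rw [← hmem]
      exact mul_inv_eq_of_eq_mul
        (congrArg Subtype.val (hAc x hx _ (hApBp ▸ commutator_mem_commutator hy hr₁)).eq)
    rw [map_le_iff_le_comap, hApBp, commutator_le]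
    intro b hb c hc
    rw [mem_comap]
    show ((⁅b, c⁆ : P) : G) ∈ Cfsg.pCore p G
    rw [← QuotientGroup.eq_one_iff]
    show F ⁅b, c⁆ = 1
    rw [map_commutatorElement]
    refine commutator_eq_one_of_quadratic hp2 ρ' hinj (N := Cfsg.pPrimeCore p (G ⧸ Cfsg.pCore p G))
      Core.coprime_card_pPrimeCore
      (Core.centralizer_pPrimeCore_le (Layer.isPSolvable_of_surjective hG (QuotientGroup.mk'_surjective _))
        Core.pCore_quotient_eq_bot)
      ((T.2.to_subgroup Bp).map F) (map_mono hAle) ?_ hBB hquad hUB (mem_map_of_mem F hb) (mem_map_of_mem F hc)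
    rintro _ ⟨y, -, rfl⟩
    rw [mem_normalizer_iff_map_conj_eq]
    refine Subgroup.eq_of_le_of_card_ge ?_ (card_map_of_injective (MulAut.conj (F y)).injective).ge
    rintro _ ⟨_, ⟨x, hx, rfl⟩, rfl⟩
    exact ⟨y * x * y⁻¹, (inferInstance : Ap.Normal).conj_mem x hx y, by simp⟩

/-- Derived series of the Sylow subgroups of an image. -/
theorem derivedSeries_eq_bot_map {H : Type u} [Group H] [Finite H] {f : G →* H}
    (hf : Function.Surjective f) {d : ℕ}
    (h : ∀ T : Sylow p G, ∀ x ∈ derivedSeries ↥(T : Subgroup G) d, f x = 1) (P : Sylow p H) :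
    derivedSeries ↥(P : Subgroup H) d = ⊥ := by
  obtain ⟨T, hT⟩ := exists_sylow_map hf P.2
  let ι : ↥(P : Subgroup H) →* ↥((T : Subgroup G).map f) := Subgroup.inclusion hT
  let g : ↥(T : Subgroup G) →* ↥((T : Subgroup G).map f) := f.subgroupMap _
  rw [eq_bot_iff]
  intro x hx
  have h1 : ι x ∈ derivedSeries ↥((T : Subgroup G).map f) d :=
    map_derivedSeries_le_derivedSeries ι d (mem_map_of_mem ι hx)
  rw [← map_derivedSeries_eq (f := g) (f.subgroupMap_surjective _)] at h1
  obtain ⟨t, ht, htx⟩ := h1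
  have h2 : (ι x : H) = 1 := by
    rw [← htx]
    exact h T t ht
  exact Subgroup.mem_bot.2 (Subtype.ext h2)

theorem pLengthLE_derivedLength (hp2 : p ≠ 2) : ∀ (d : ℕ) (G : Type u) [Group G] [Finite G],
    Cfsg.IsPSolvable p G → (∀ P : Sylow p G, derivedSeries ↥(P : Subgroup G) d = ⊥) →
    Cfsg.PLengthLE p d G := by
  intro d
  induction d with
  | zero =>
    intro G _ _ _ hd
    refine pLengthLE_zero_of_coprime (Nat.Coprime.symm (hp.out.coprime_iff_not_dvd.2 fun hdv => ?_))
    obtain ⟨P⟩ : Nonempty (Sylow p G) := inferInstance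
    refine P.ne_bot_of_dvd_card hdv ((eq_bot_iff_forall _).2 fun x hx => ?_)
    have h : (⟨x, hx⟩ : (P : Subgroup G)) ∈ derivedSeries ↥(P : Subgroup G) 0 := by simp
    rw [hd P, Subgroup.mem_bot] at h
    exact congrArg Subtype.val h
  | succ d ih =>
    intro G _ _ hG hd
    set U := Cfsg.pPrimeCore p G with hU
    have hmk : Function.Surjective (QuotientGroup.mk' U) := QuotientGroup.mk'_surjective U
    have hG₁ := Layer.isPSolvable_of_surjective hG hmk
    have hd₁ : ∀ P : Sylow p (G ⧸ U), derivedSeries ↥(P : Subgroup (G ⧸ U)) (d + 1) = ⊥ :=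
      derivedSeries_eq_bot_map hmk fun T x hx => by
        rw [hd T, Subgroup.mem_bot] at hx
        rw [hx, OneMemClass.coe_one, map_one]
    set R := Cfsg.pCore p (G ⧸ U) with hR
    have hmk₂ : Function.Surjective (QuotientGroup.mk' R) := QuotientGroup.mk'_surjective R
    have hL : Cfsg.PLengthLE p d ((G ⧸ U) ⧸ R) :=
      ih _ (Layer.isPSolvable_of_surjective hG₁ hmk₂) (derivedSeries_eq_bot_map hmk₂ fun T x hx =>
        (QuotientGroup.eq_one_iff _).2
          (derivedSeries_le_pCore hp2 hG₁ Core.pPrimeCore_quotient_eq_bot T (hd₁ T) (mem_map_of_mem _ hx)))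
    have h1 : Cfsg.PLengthLE p (1 + d) (G ⧸ U) :=
      of_extension R (pLengthLE_one_of_isPGroup Core.pCore_isPGroup) hL
    have h2 := of_extension U (pLengthLE_zero_of_coprime Core.coprime_card_pPrimeCore) h1
    rwa [show 0 + (1 + d) = d + 1 by omega] at h2

end Cfsg.Agent.PLength
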