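import Cfsg.Agent.PLength.TopPowers
import Cfsg.Agent.PLength.FrattiniModule
import Cfsg.Agent.HallHigman.Linear

/-!
The Hall–Higman bounds of the `p`-length by the exponent of the Sylow `p`-subgroups, `p` odd.
-/

set_option autoImplicit false

namespace Cfsg.Agent.PLength

open Subgroup

universe u

variable {p : ℕ} [hp : Fact p.Prime]

theorem geom_sum_pow_eq {V : Type*} [AddCommGroup V] [Module (ZMod p) V]
    (T : Module.End (ZMod p) V) (k : ℕ) :
    ∑ j ∈ Finset.range (p ^ k), T ^ j = (T - 1) ^ (p ^ k - 1) := by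
  open Polynomial in
  have h : (∑ j ∈ Finset.range (p ^ k), (X : (ZMod p)[X]) ^ j) = (X - 1) ^ (p ^ k - 1) := by
    refine mul_right_cancel₀ (b := (X - 1 : (ZMod p)[X])) (by rw [← map_one C]; exact X_sub_C_ne_zero 1) ?_
    rw [geom_sum_mul, ← pow_succ, Nat.sub_add_cancel (pow_pos hp.out.pos k), sub_pow_char_pow, one_pow]
  have h1 := congrArg (Polynomial.aeval T) h
  simpa using h1

theorem pow_char_sub_one {V : Type*} [AddCommGroup V] [Module (ZMod p) V]
    (T : Module.End (ZMod p) V) (k : ℕ) : T ^ p ^ k - 1 = (T - 1) ^ p ^ k := by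
  open Polynomial in
  have h : (X : (ZMod p)[X]) ^ p ^ k - 1 = (X - 1) ^ p ^ k := by rw [sub_pow_char_pow, one_pow]
  have h1 := congrArg (Polynomial.aeval T) h
  simpa using h1

variable {G : Type u} [Group G] [Finite G]

theorem exp_map {H : Type*} [Group H] [Finite H] {f : G →* H} (hf : Function.Surjective f) {n : ℕ}
    (hexp : ∀ (P : Sylow p G), ∀ x ∈ (P : Subgroup G), x ^ p ^ n = 1) :
    ∀ (P : Sylow p H), ∀ x ∈ (P : Subgroup H), x ^ p ^ n = 1 := by
  intro P x hx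
  obtain ⟨T, hT⟩ := exists_sylow_map hf P.2
  obtain ⟨t, ht, rfl⟩ := hT hx
  rw [← map_pow, hexp T t ht, map_one]

omit [Finite G] in
theorem exists_pow_eq_of_sylow (P : Sylow p G) {x : G} (hx : x ∈ (P : Subgroup G)) :
    ∃ j, orderOf x = p ^ j := by
  obtain ⟨j, hj⟩ := IsPGroup.iff_orderOf.1 P.2 ⟨x, hx⟩
  exact ⟨j, by rwa [orderOf_mk] at hj⟩

/-- The norm of a `p`-element vanishes when the Sylow subgroups have exponent `p ^ n`. -/
theorem norm_eq_zero_of_exponent {V : Type u} [AddCommGroup V] [Module (ZMod p) V]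
    {π : ↥(Cfsg.pCore p G) → V} {ρ : G →* Module.End (ZMod p) V}
    (hπ : ∀ v w, π (v * w) = π v + π w) (hsurj : Function.Surjective π)
    (hρ : ∀ g v, ρ g (π v) = π (MulAut.conjNormal g v)) {n : ℕ}
    (hexp : ∀ (P : Sylow p G), ∀ x ∈ (P : Subgroup G), x ^ p ^ n = 1)
    (T : Sylow p G) {g : G} (hg : g ∈ (T : Subgroup G)) :
    ∑ j ∈ Finset.range (p ^ n), ρ (g ^ j) = 0 := by
  refine LinearMap.ext fun m => ?_
  obtain ⟨v, rfl⟩ := hsurj m
  obtain ⟨w, hw1, hw2⟩ := exists_mul_pow hπ hρ v g (p ^ n)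
  rw [hexp T _ (mul_mem (Core.pCore_le_sylow T v.2) hg), hexp T g hg, mul_one] at hw1
  have hw : w = 1 := Subtype.ext hw1.symm
  have h1 := hπ 1 1
  rw [mul_one] at h1
  rw [← hw2, hw, LinearMap.zero_apply]
  exact left_eq_add.1 h1

/-- The step for the bound `e`. -/
theorem pow_mem_pCore_of_not_exceptional (hp2 : p ≠ 2) (hG : Cfsg.IsPSolvable p G)
    (hO : Cfsg.pPrimeCore p G = ⊥)
    (hc : (¬ ∃ k : ℕ, p = 2 ^ k + 1) ∨ ∀ S : Sylow 2 G, IsMulCommutative (S : Subgroup G))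
    {n : ℕ} (hn : 1 ≤ n) (hexp : ∀ (P : Sylow p G), ∀ x ∈ (P : Subgroup G), x ^ p ^ n = 1)
    (T : Sylow p G) {g : G} (hg : g ∈ (T : Subgroup G)) : g ^ p ^ (n - 1) ∈ Cfsg.pCore p G := by
  obtain ⟨V, i1, i2, i3, π, ρ, ρ', hπ, hsurj, hρ, hρ', hinj⟩ := exists_frattini_module hG hO
  rw [← QuotientGroup.eq_one_iff, QuotientGroup.mk_pow]
  by_contra hne
  obtain ⟨m, rfl⟩ : ∃ m, n = m + 1 := ⟨n - 1, by omega⟩
  rw [Nat.add_sub_cancel] at hne
  have hord : orderOf (QuotientGroup.mk g : G ⧸ Cfsg.pCore p G) = p ^ (m + 1) :=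
    orderOf_eq_prime_pow hne (by rw [← QuotientGroup.mk_pow, hexp T g hg, QuotientGroup.mk_one])
  have hs : (ρ' (QuotientGroup.mk g) - 1) ^ (p ^ (m + 1) - 1) = 0 := by
    rw [← geom_sum_pow_eq, ← norm_eq_zero_of_exponent hπ hsurj hρ hexp T hg]
    exact Finset.sum_congr rfl fun j _ => by rw [hρ', map_pow]
  rcases HallHigman.theoremB (Layer.isPSolvable_of_surjective hG (QuotientGroup.mk'_surjective _))
      Core.pCore_quotient_eq_bot ρ' hinj hn hord hs with
    h | ⟨n₀, q, b, h1, h2, hq, hb, hpq, hQ, -⟩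
  · have := pow_pos hp.out.pos (m + 1)
    omega
  · have hev : Even (p ^ n₀ - 1) := by
      have ho : Odd (p ^ n₀) := (hp.out.odd_of_ne_two hp2).pow
      exact Nat.Odd.sub_odd ho odd_one
    rcases hq.eq_two_or_odd' with rfl | hodd
    · rcases hc with hc | hc
      · have hd : p - 1 ∣ 2 ^ b := hpq ▸ Nat.sub_one_dvd_pow_sub_one p n₀
        obtain ⟨i, -, hi⟩ := (Nat.dvd_prime_pow Nat.prime_two).1 hd
        exact hc ⟨i, by have := hp.out.one_lt; omega⟩
      · haveI : Fact (Nat.Prime 2) := ⟨Nat.prime_two⟩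
        obtain ⟨S⟩ : Nonempty (Sylow 2 (G ⧸ Cfsg.pCore p G)) := inferInstance
        obtain ⟨S', hS'⟩ := exists_sylow_map (QuotientGroup.mk'_surjective (Cfsg.pCore p G)) S.2
        haveI := hc S'
        exact hQ S (comm_of_le (K := (S' : Subgroup G).map (QuotientGroup.mk' _)) inferInstance hS')
    · exact Nat.not_even_iff_odd.2 (hodd.pow) (hpq ▸ hev)

/-- The step for the bound `2 e`: two layers lower the exponent. -/
theorem pow_eq_one_second_layer (hp2 : p ≠ 2) (hG : Cfsg.IsPSolvable p G)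
    (hO : Cfsg.pPrimeCore p G = ⊥) {n : ℕ} (hn : 1 ≤ n)
    (hexp : ∀ (P : Sylow p G), ∀ x ∈ (P : Subgroup G), x ^ p ^ n = 1) :
    let X := G ⧸ Cfsg.pCore p G
    let X₂ := X ⧸ Cfsg.pPrimeCore p X
    ∀ (P : Sylow p (X₂ ⧸ Cfsg.pCore p X₂)), ∀ x ∈ (P : Subgroup (X₂ ⧸ Cfsg.pCore p X₂)),
      x ^ p ^ (n - 1) = 1 := by
  intro X X₂ P y hy
  set R := Cfsg.pCore p G with hR
  set U₂ := Cfsg.pPrimeCore p X with hU₂
  set R₂ := Cfsg.pCore p X₂ with hR₂
  have hX : Cfsg.IsPSolvable p X := Layer.isPSolvable_of_surjective hG (QuotientGroup.mk'_surjective R)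
  have hf₂ : Function.Surjective (QuotientGroup.mk' U₂) := QuotientGroup.mk'_surjective U₂
  have hf₃ : Function.Surjective (QuotientGroup.mk' R₂) := QuotientGroup.mk'_surjective R₂
  have hX₂ : Cfsg.IsPSolvable p X₂ := Layer.isPSolvable_of_surjective hX hf₂
  obtain ⟨V, i1, i2, i3, π, ρ, ρ', hπ, hsurj, hρ, hρ', hinj⟩ := exists_frattini_module hG hO
  obtain ⟨T, hT⟩ := exists_sylow_map (f := (QuotientGroup.mk' R₂).comp (QuotientGroup.mk' U₂))
    (hf₃.comp hf₂) P.2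
  obtain ⟨z, hz, rfl⟩ := hT hy
  have hexpX : ∀ (S : Sylow p X), ∀ x ∈ (S : Subgroup X), x ^ p ^ n = 1 :=
    exp_map (QuotientGroup.mk'_surjective R) hexp
  have hcomm : ∀ {a b : X}, a ∈ (T : Subgroup X) → b ∈ (T : Subgroup X) →
      Commute (a ^ p ^ (n - 1)) (b ^ p ^ (n - 1)) := fun ha hb => by
    refine commute_top_powers_of_norm_zero hp2 ρ' hinj (N := U₂) (P := (T : Subgroup X))
      Core.coprime_card_pPrimeCore (Core.centralizer_pPrimeCore_le hX Core.pCore_quotient_eq_bot)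
      T.2 hn (fun x hx => hexpX T x hx) (fun x hx => ?_) ha hb
    obtain ⟨S, hS⟩ := exists_sylow_map (QuotientGroup.mk'_surjective R) T.2
    obtain ⟨g, hg, rfl⟩ := hS hx
    rw [← norm_eq_zero_of_exponent hπ hsurj hρ hexp S hg]
    exact Finset.sum_congr rfl fun j _ => by rw [QuotientGroup.mk'_apply, ← QuotientGroup.mk_pow, hρ']
  obtain ⟨V₂, j1, j2, j3, π₂, ρ₂, ρ₂', hπ₂, hsurj₂, hρ₂, hρ₂', hinj₂⟩ :=
    exists_frattini_module (p := p) (G := X₂) hX₂ Core.pPrimeCore_quotient_eq_bot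
  by_contra hne
  obtain ⟨m, rfl⟩ : ∃ m, n = m + 1 := ⟨n - 1, by omega⟩
  rw [Nat.add_sub_cancel] at hne
  set zb : X₂ := QuotientGroup.mk' U₂ z with hzb
  have hord : orderOf (QuotientGroup.mk zb : X₂ ⧸ R₂) = p ^ (m + 1) :=
    orderOf_eq_prime_pow hne (by
      rw [← QuotientGroup.mk_pow, hzb, ← map_pow, hexpX T z hz, map_one, QuotientGroup.mk_one])
  have hkey : ∀ v : V₂, (ρ₂ (zb ^ p ^ m) - 1) ((∑ j ∈ Finset.range (p ^ m), ρ₂ (zb ^ j)) v) = 0 := by
    intro v
    obtain ⟨u, rfl⟩ := hsurj₂ v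
    obtain ⟨w, hw1, hw2⟩ := exists_mul_pow hπ₂ hρ₂ u zb (p ^ m)
    obtain ⟨u', hu', huu⟩ : (u : X₂) ∈ (T : Subgroup X).map (QuotientGroup.mk' U₂) :=
      Core.pCore_le_sylow (T.mapSurjective hf₂) u.2
    have h := (hcomm hz (mul_mem hu' hz)).map (QuotientGroup.mk' U₂)
    simp only [Nat.add_sub_cancel, map_pow, map_mul, huu, ← hzb, hw1] at h
    rw [LinearMap.sub_apply, Module.End.one_apply, ← hw2, hρ₂, sub_eq_zero]
    congr 1
    refine Subtype.ext ?_
    rw [MulAut.conjNormal_apply]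
    exact mul_inv_eq_of_eq_mul (mul_right_cancel (b := zb ^ p ^ m) (by simpa [mul_assoc] using h.eq))
  have hs : (ρ₂' (QuotientGroup.mk zb) - 1) ^ (2 * p ^ m - 1) = 0 := by
    have h1 : p ^ m + (p ^ m - 1) = 2 * p ^ m - 1 := by
      have := pow_pos hp.out.pos m
      omega
    rw [← h1, pow_add, ← pow_char_sub_one, ← geom_sum_pow_eq]
    refine LinearMap.ext fun v => ?_
    rw [Module.End.mul_apply, LinearMap.zero_apply, ← hkey v]
    simp only [hρ₂', map_pow]
  have hpm := pow_pos hp.out.pos m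
  have hp3 : 3 ≤ p := by
    have := hp.out.two_le
    omega
  rcases HallHigman.theoremB (Layer.isPSolvable_of_surjective hX₂ hf₃)
      Core.pCore_quotient_eq_bot ρ₂' hinj₂ (Nat.le_add_left 1 m) hord hs with
    h | ⟨n₀, q, b, h1, h2, hq, hb, hpq, -, h6⟩
  · rw [pow_succ] at h
    have := Nat.mul_le_mul_left (p ^ m) hp3
    omega
  · rw [Nat.mul_sub, mul_one, ← pow_add, Nat.sub_add_cancel h2, pow_succ] at h6
    have h3 : p ^ (m + 1 - n₀) ≤ p ^ m := Nat.pow_le_pow_right hp.out.pos (by omega)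
    have := Nat.mul_le_mul_left (p ^ m) hp3
    omega

theorem pLengthLE_exponent_a (hp2 : p ≠ 2) : ∀ (n : ℕ) (G : Type u) [Group G] [Finite G],
    Cfsg.IsPSolvable p G →
    ((¬ ∃ k : ℕ, p = 2 ^ k + 1) ∨ ∀ S : Sylow 2 G, IsMulCommutative (S : Subgroup G)) →
    (∀ (P : Sylow p G), ∀ x ∈ (P : Subgroup G), x ^ p ^ n = 1) → Cfsg.PLengthLE p n G := by
  haveI : Fact (Nat.Prime 2) := ⟨Nat.prime_two⟩
  intro n
  induction n with
  | zero =>
    intro G _ _ _ _ hexp
    refine pLengthLE_zero_of_coprime (Nat.Coprime.symm (hp.out.coprime_iff_not_dvd.2 fun hd => ?_))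
    obtain ⟨P⟩ : Nonempty (Sylow p G) := inferInstance
    refine P.ne_bot_of_dvd_card hd ((eq_bot_iff_forall _).2 fun x hx => ?_)
    simpa using hexp P x hx
  | succ n ih =>
    intro G _ _ hG hc hexp
    have hcq : ∀ {H : Type u} [Group H] [Finite H] {K : Type u} [Group K] [Finite K] (f : H →* K),
        Function.Surjective f →
        ((¬ ∃ k : ℕ, p = 2 ^ k + 1) ∨ ∀ S : Sylow 2 H, IsMulCommutative (S : Subgroup H)) →
        ((¬ ∃ k : ℕ, p = 2 ^ k + 1) ∨ ∀ S : Sylow 2 K, IsMulCommutative (S : Subgroup K)) := by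
      intro H _ _ K _ _ f hf hc
      refine hc.imp id fun hc S => ?_
      obtain ⟨S', hS'⟩ := exists_sylow_map hf S.2
      haveI := hc S'
      exact comm_of_le (K := (S' : Subgroup H).map f) inferInstance hS'
    set U := Cfsg.pPrimeCore p G with hU
    have hmk : Function.Surjective (QuotientGroup.mk' U) := QuotientGroup.mk'_surjective U
    have hG₁ := Layer.isPSolvable_of_surjective hG hmk
    have hO₁ : Cfsg.pPrimeCore p (G ⧸ U) = ⊥ := Core.pPrimeCore_quotient_eq_bot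
    have hexp₁ := exp_map hmk hexp
    have hc₁ := hcq _ hmk hc
    set R := Cfsg.pCore p (G ⧸ U) with hR
    have hmk₂ : Function.Surjective (QuotientGroup.mk' R) := QuotientGroup.mk'_surjective R
    have hL : Cfsg.PLengthLE p n ((G ⧸ U) ⧸ R) := by
      refine ih _ (Layer.isPSolvable_of_surjective hG₁ hmk₂) (hcq _ hmk₂ hc₁) fun P x hx => ?_
      obtain ⟨T, hT⟩ := exists_sylow_map hmk₂ P.2
      obtain ⟨t, ht, rfl⟩ := hT hx
      rw [← map_pow]
      exact (QuotientGroup.eq_one_iff _).2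
        (pow_mem_pCore_of_not_exceptional hp2 hG₁ hO₁ hc₁ (n := n + 1) (by omega) hexp₁ T ht)
    have h1 : Cfsg.PLengthLE p (1 + n) (G ⧸ U) :=
      of_extension R (pLengthLE_one_of_isPGroup Core.pCore_isPGroup) hL
    have h2 := of_extension U (pLengthLE_zero_of_coprime Core.coprime_card_pPrimeCore) h1
    rwa [show 0 + (1 + n) = n + 1 by omega] at h2

theorem pLengthLE_exponent_b (hp2 : p ≠ 2) : ∀ (n : ℕ) (G : Type u) [Group G] [Finite G],
    Cfsg.IsPSolvable p G →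
    (∀ (P : Sylow p G), ∀ x ∈ (P : Subgroup G), x ^ p ^ n = 1) → Cfsg.PLengthLE p (2 * n) G := by
  intro n
  induction n with
  | zero =>
    intro G _ _ _ hexp
    refine pLengthLE_zero_of_coprime (Nat.Coprime.symm (hp.out.coprime_iff_not_dvd.2 fun hd => ?_))
    obtain ⟨P⟩ : Nonempty (Sylow p G) := inferInstance
    refine P.ne_bot_of_dvd_card hd ((eq_bot_iff_forall _).2 fun x hx => ?_)
    simpa using hexp P x hx
  | succ n ih =>
    intro G _ _ hG hexp
    set U := Cfsg.pPrimeCore p G with hU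
    have hmk : Function.Surjective (QuotientGroup.mk' U) := QuotientGroup.mk'_surjective U
    have hG₁ := Layer.isPSolvable_of_surjective hG hmk
    have hexp₁ := exp_map hmk hexp
    set R := Cfsg.pCore p (G ⧸ U) with hR
    have hX := Layer.isPSolvable_of_surjective hG₁ (QuotientGroup.mk'_surjective R)
    set U₂ := Cfsg.pPrimeCore p ((G ⧸ U) ⧸ R) with hU₂
    have hX₂ := Layer.isPSolvable_of_surjective hX (QuotientGroup.mk'_surjective U₂)
    set R₂ := Cfsg.pCore p (((G ⧸ U) ⧸ R) ⧸ U₂) with hR₂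
    have hL : Cfsg.PLengthLE p (2 * n) ((((G ⧸ U) ⧸ R) ⧸ U₂) ⧸ R₂) :=
      ih _ (Layer.isPSolvable_of_surjective hX₂ (QuotientGroup.mk'_surjective R₂))
        (pow_eq_one_second_layer hp2 hG₁ Core.pPrimeCore_quotient_eq_bot (n := n + 1) (by omega) hexp₁)
    have h1 := of_extension R₂ (pLengthLE_one_of_isPGroup Core.pCore_isPGroup) hL
    have h2 := of_extension U₂ (pLengthLE_zero_of_coprime Core.coprime_card_pPrimeCore) h1
    have h3 := of_extension R (pLengthLE_one_of_isPGroup Core.pCore_isPGroup) h2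
    have h4 := of_extension U (pLengthLE_zero_of_coprime Core.coprime_card_pPrimeCore) h3
    rwa [show 0 + (1 + (0 + (1 + 2 * n))) = 2 * (n + 1) by omega] at h4

end Cfsg.Agent.PLength
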