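import Cfsg.Agent.Fusion.PGroup
import Mathlib.Data.ZMod.Basic

/-!
A `3`-group acting on a symplectic form over `Z/2` in which no element of an abelian normal subgroup
moves two orthogonal points: the commutators act trivially modulo the radical.
-/

set_option autoImplicit false

namespace Cfsg.Agent.PLength.QuadraticForm

open Subgroup
open scoped commutatorElement

variable {C Γ : Type*} [Group C] [Group Γ] {e : C → C → ZMod 2} {ψ : Γ →* MulAut C}

theorem symm_e (hadd : ∀ s t u, e (s * t) u = e s u + e t u)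
    (hadd' : ∀ s t u, e s (t * u) = e s t + e s u) (halt : ∀ t, e t t = 0) (s t : C) :
    e s t = e t s := by
  have h := halt (s * t)
  rw [hadd, hadd', hadd', halt, halt] at h
  revert h
  generalize e s t = x
  generalize e t s = y
  revert x y
  decide

/-- If `a` moves no point of an invariant set off itself, it fixes the form there. -/
theorem fixed_of_isotropic (hadd : ∀ s t u, e (s * t) u = e s u + e t u)
    (hadd' : ∀ s t u, e s (t * u) = e s t + e s u) (halt : ∀ t, e t t = 0)
    (hinv : ∀ g s t, e (ψ g s) (ψ g t) = e s t) {a : Γ} (ha : a ^ 3 = 1) {S : C → Prop}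
    (hSm : ∀ u v, S u → S v → S (u * v)) (hSa : ∀ v, S v → S (ψ a v))
    (h : ∀ u, S u → e u (ψ a u) = 0) {u v : C} (hu : S u) (hv : S v) :
    e u (ψ a v) = e u v := by
  have hpol : ∀ u v, S u → S v → e u (ψ a v) = e u (ψ a (ψ a v)) := by
    intro u v hu hv
    have h1 := h _ (hSm u v hu hv)
    rw [map_mul, hadd, hadd', hadd', h u hu, h v hv, symm_e hadd hadd' halt v (ψ a u)] at h1
    have h2 : e (ψ a u) v = e u (ψ a (ψ a v)) := by
      conv_rhs => rw [← hinv a, ← MulAut.mul_apply, ← MulAut.mul_apply, ← map_mul, ← map_mul,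
        show a * a * a = 1 by rw [← ha]; simp [pow_succ], map_one, MulAut.one_apply]
    rw [h2] at h1
    revert h1
    generalize e u (ψ a v) = x
    generalize e u (ψ a (ψ a v)) = y
    revert x y
    decide
  have h3 := hpol u (ψ a v) hu (hSa v hv)
  rw [← hpol u v hu hv, ← MulAut.mul_apply, ← MulAut.mul_apply, ← map_mul, ← map_mul,
    show a * a * a = 1 by rw [← ha]; simp [pow_succ], map_one, MulAut.one_apply] at h3
  exact h3

theorem commutator_fixes [Finite Γ] (hadd : ∀ s t u, e (s * t) u = e s u + e t u)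
    (hadd' : ∀ s t u, e s (t * u) = e s t + e s u) (halt : ∀ t, e t t = 0)
    (hinv : ∀ g s t, e (ψ g s) (ψ g t) = e s t) (hΓ : IsPGroup 3 Γ) (A : Subgroup Γ) [A.Normal]
    [IsMulCommutative A] (hexp : ∀ a ∈ A, a ^ 3 = 1) (hcomm : ∀ b c : Γ, ⁅b, c⁆ ∈ A)
    (hkey : ∀ a ∈ A, ∀ t t' : C, (∀ i j : ℕ, e (ψ (a ^ i) t) (ψ (a ^ j) t') = 0) →
      e t (ψ a t) = 0 ∨ e t' (ψ a t') = 0)
    (b c : Γ) (s u : C) : e (ψ ⁅b, c⁆ s) u = e s u := by
  classical
  have hsymm := symm_e hadd hadd' halt
  have hcase : ∀ x : ZMod 2, x = 0 ∨ x = 1 := by decide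
  have happ : ∀ (g h : Γ) (x : C), ψ g (ψ h x) = ψ (g * h) x := fun g h x => by
    rw [← MulAut.mul_apply, ← map_mul]
  have hmove : ∀ (g : Γ) (x y : C), e (ψ g x) y = e x (ψ g⁻¹ y) := fun g x y => by
    conv_lhs => rw [← hinv g⁻¹, happ, inv_mul_cancel, map_one, MulAut.one_apply]
  set a := ⁅b, c⁆ with hadef
  have haA : a ∈ A := hcomm b c
  have ha3 := hexp a haA
  by_contra hne
  let N : Subgroup Γ :=
    { carrier := {g | ∀ x y, e (ψ g x) y = e x y}
      mul_mem' := fun {g h} hg hh x y => by rw [← happ, hg, hh]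
      one_mem' := fun x y => by rw [map_one, MulAut.one_apply]
      inv_mem' := fun {g} hg x y => by
        have h1 := hg (ψ g⁻¹ x) y
        rwa [happ, mul_inv_cancel, map_one, MulAut.one_apply, eq_comm] at h1 }
  have hNmem : ∀ g, g ∈ N ↔ ∀ x y, e (ψ g x) y = e x y := fun g => Iff.rfl
  have haN : a ∉ N := fun h => hne (h s u)
  haveI : N.Normal := ⟨fun n hn g x y => by
    rw [← happ, ← happ, hmove g, hn, ← hmove g, happ, mul_inv_cancel, map_one, MulAut.one_apply]⟩
  have hcongr : ∀ g h : Γ, g⁻¹ * h ∈ N → ∀ x y, e (ψ h x) y = e (ψ g x) y := fun g h hn x y => by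
    rw [show h = g * (g⁻¹ * h) by group, ← happ, hmove, hn, ← hmove]
  have hstep : ∀ (g : Γ) (x x' : C), (∀ y, e x y = e x' y) → ∀ y, e (ψ g x) y = e (ψ g x') y :=
    fun g x x' h y => by rw [hmove, h, ← hmove]
  -- a point moved off itself
  obtain ⟨w, hw⟩ : ∃ w, e w (ψ a w) = 1 := by
    by_contra hall
    push Not at hall
    refine haN fun x y => ?_
    have h := fixed_of_isotropic hadd hadd' halt hinv ha3 (S := fun _ => True) (fun _ _ _ _ => trivial)
      (fun _ _ => trivial) (fun v _ => (hcase _).resolve_right (hall v)) (u := y) (v := x) trivial trivial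
    rw [hsymm, h, hsymm]
  set t := w * ψ a w with ht
  set T : ℕ → C := fun i => ψ (a ^ i) t with hT
  have hT0 : T 0 = t := by simp [hT]
  have hTs : ∀ i, ψ a (T i) = T (i + 1) := fun i => by simp only [hT]; rw [happ, ← pow_succ']
  have hT3 : ∀ i, T (i + 3) = T i := fun i => by simp only [hT]; rw [pow_add, ha3, mul_one]
  have hTmod : ∀ i, T i = T (i % 3) := fun i => by
    simp only [hT]
    conv_lhs => rw [← Nat.mod_add_div i 3, pow_add, pow_mul, ha3, one_pow, mul_one]
  have hw12 : e (ψ a w) (ψ a (ψ a w)) = 1 := by rw [hinv, hw]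
  have hw02 : e w (ψ a (ψ a w)) = 1 := by
    rw [← hinv a, happ a a, happ, show a * a * a = 1 by rw [← ha3]; simp [pow_succ],
      map_one, MulAut.one_apply, hsymm]
    exact hw
  have h01 : e (T 0) (T 1) = 1 := by
    rw [hT0, ← hTs 0, hT0, ht, map_mul, hadd, hadd', hadd', hw, hw02, halt, hw12]
    decide
  have hsum : ∀ y, e (T 0) y + e (T 1) y + e (T 2) y = 0 := fun y => by
    have e3 : ψ a (ψ a (ψ a w)) = w := by
      rw [happ, happ, show a * a * a = 1 by rw [← ha3]; simp [pow_succ], map_one, MulAut.one_apply]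
    rw [← hTs 1, ← hTs 0, hT0, ht, map_mul, map_mul, hadd, hadd, hadd, e3]
    generalize e w y = x₁
    generalize e (ψ a w) y = x₂
    generalize e (ψ a (ψ a w)) y = x₃
    revert x₁ x₂ x₃
    decide
  have hT2 : ∀ y, e (T 2) y = e (T 0) y + e (T 1) y := fun y => by
    have h := hsum y
    revert h
    generalize e (T 0) y = x₁
    generalize e (T 1) y = x₂
    generalize e (T 2) y = x₃
    revert x₁ x₂ x₃
    decide
  have h10 : e (T 1) (T 0) = 1 := by rw [hsymm]; exact h01
  let S : C → Prop := fun x => e x (T 0) = 0 ∧ e x (T 1) = 0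
  have hS2 : ∀ x, S x → e x (T 2) = 0 := fun x hx => by rw [hsymm, hT2, hsymm, hx.1, hsymm, hx.2, add_zero]
  have hST : ∀ x, S x → ∀ i, e x (T i) = 0 := fun x hx i => by
    rw [hTmod]
    rcases (by omega : i % 3 = 0 ∨ i % 3 = 1 ∨ i % 3 = 2) with h | h | h <;> rw [h]
    exacts [hx.1, hx.2, hS2 x hx]
  have hSm : ∀ x y, S x → S y → S (x * y) := fun x y hx hy =>
    ⟨by rw [hadd, hx.1, hy.1, add_zero], by rw [hadd, hx.2, hy.2, add_zero]⟩
  have hSa : ∀ x, S x → S (ψ a x) := fun x hx => by
    refine ⟨?_, ?_⟩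
    · rw [← hT3 0, ← hTs 2, hinv]; exact hS2 x hx
    · rw [← hTs 0, hinv]; exact hx.1
  have hdec : ∀ x, ∃ (x' : C) (i j : ℕ), S x' ∧
      ∀ y, e x y = e x' y + (i : ZMod 2) * e (T 0) y + (j : ZMod 2) * e (T 1) y := fun x => by
    have hpow : ∀ (v : C) (n : ℕ) (y : C), e (v ^ n) y = (n : ZMod 2) * e v y := fun v n y => by
      induction n with
      | zero =>
        have h1 := hadd 1 1 y
        rw [mul_one] at h1
        rw [pow_zero, Nat.cast_zero, zero_mul]
        exact left_eq_add.1 h1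
      | succ n ih => rw [pow_succ, hadd, ih, Nat.cast_succ, add_mul, one_mul]
    refine ⟨x * T 0 ^ (e x (T 1)).val * T 1 ^ (e x (T 0)).val, (e x (T 1)).val, (e x (T 0)).val, ⟨?_, ?_⟩, fun y => ?_⟩
    · rw [hadd, hadd, hpow, hpow, halt, h10, ZMod.natCast_zmod_val, ZMod.natCast_zmod_val]
      generalize e x (T 0) = x₁
      generalize e x (T 1) = x₂
      revert x₁ x₂
      decide
    · rw [hadd, hadd, hpow, hpow, halt, h01, ZMod.natCast_zmod_val, ZMod.natCast_zmod_val]
      generalize e x (T 0) = x₁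
      generalize e x (T 1) = x₂
      revert x₁ x₂
      decide
    · rw [hadd, hadd, hpow, hpow]
      generalize ((e x (T 1)).val : ZMod 2) * e (T 0) y = x₁
      generalize ((e x (T 0)).val : ZMod 2) * e (T 1) y = x₂
      generalize e x y = x₃
      revert x₁ x₂ x₃
      decide
  -- `a` is trivial orthogonally to its line
  have haS : ∀ x, S x → ∀ y, e (ψ a x) y = e x y := by
    intro x hx y
    have hiso : ∀ v, S v → e v (ψ a v) = 0 := fun v hv => by
      refine (hkey a haA t v fun i j => ?_).resolve_left (by rw [← hT0, hTs, hT0]; rw [← hT0, h01]; decide)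
      show e (T i) (ψ (a ^ j) v) = 0
      have hSj : ∀ j : ℕ, S (ψ (a ^ j) v) := fun j => by
        induction j with
        | zero => simpa using hv
        | succ j ih => rw [pow_succ', ← happ]; exact hSa _ ih
      rw [hsymm]
      exact hST _ (hSj j) i
    obtain ⟨y', i, j, hy', hy⟩ := hdec y
    rw [hsymm, hy, hsymm x, hy, hsymm (T 0), hsymm (T 1), hST _ (hSa x hx), hST _ (hSa x hx),
      hsymm (T 0) x, hsymm (T 1) x, hx.1, hx.2,
      fixed_of_isotropic hadd hadd' halt hinv ha3 hSm hSa hiso hy' hx]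
  -- elements commuting with `a` permute the line
  have hline : ∀ g : Γ, (a * g)⁻¹ * (g * a) ∈ N → ∃ k : ℕ, ∀ i y, e (ψ g (T i)) y = e (T (i + k)) y := by
    intro g hg
    have hga : ∀ x y, e (ψ g (ψ a x)) y = e (ψ a (ψ g x)) y := fun x y => by
      rw [happ, happ]
      exact hcongr (a * g) (g * a) hg x y
    set v := ψ g w with hv
    have hgt : ∀ y, e (ψ g t) y = e (v * ψ a v) y := fun y => by rw [ht, map_mul, hadd, hadd, hga]
    obtain ⟨v', i, j, hv', hvd⟩ := hdec v
    have hd : ∀ y, e (ψ g t) y = ((i : ZMod 2) + j) * e (T 0) y + (i : ZMod 2) * e (T 1) y := fun y => by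
      rw [hgt, hadd, hmove a v y, hvd, hvd, ← hmove, ← hmove, ← hmove, hTs, hTs, haS v' hv', hT2]
      generalize (i : ZMod 2) = x₁
      generalize (j : ZMod 2) = x₂
      generalize e v' y = x₃
      generalize e (T 0) y = x₄
      generalize e (T 1) y = x₅
      revert x₁ x₂ x₃ x₄ x₅
      decide
    obtain ⟨k, hk⟩ : ∃ k, ∀ y, e (ψ g t) y = e (T k) y := by
      rcases hcase (i : ZMod 2) with hi | hi <;> rcases hcase (j : ZMod 2) with hj | hj
      · exfalso
        have h1 : e (ψ g t) (ψ g (ψ a t)) = 0 := by rw [hd, hi, hj]; ring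
        rw [hinv, ← hT0, hTs, h01] at h1
        exact one_ne_zero h1
      · exact ⟨0, fun y => by rw [hd, hi, hj]; ring⟩
      · exact ⟨2, fun y => by rw [hd, hi, hj, hT2]; ring⟩
      · exact ⟨1, fun y => by rw [hd, hi, hj, show (1 : ZMod 2) + 1 = 0 by decide]; ring⟩
    refine ⟨k, fun i => ?_⟩
    induction i with
    | zero => intro y; rw [zero_add, hT0, hk]
    | succ i ih =>
      intro y
      rw [← hTs, hga, hstep a _ _ ih, hTs, show i + k + 1 = i + 1 + k by omega]
  -- `A` is `⟨a⟩` modulo `N`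
  have hA : ∀ a' ∈ A, ∃ k : ℕ, (a ^ k)⁻¹ * a' ∈ N := by
    intro a' ha'
    have hca : a * a' = a' * a := setLike_mul_comm (s := A) haA ha'
    obtain ⟨k, hk⟩ := hline a' (by rw [hca, inv_mul_cancel]; exact one_mem N)
    refine ⟨k, ?_⟩
    set a'' := (a ^ k)⁻¹ * a' with ha''def
    have ha'' : a'' ∈ A := mul_mem (inv_mem (pow_mem haA k)) ha'
    by_contra hN'
    have hfix : ∀ i y, e (ψ a'' (T i)) y = e (T i) y := fun i y => by
      rw [ha''def, ← happ, hmove, hk, ← hmove]
      congr 1
      simp only [hT, happ]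
      congr 2
      rw [add_comm i k, pow_add, inv_mul_cancel_left]
    have hS'' : ∀ x, S x → S (ψ a'' x) := fun x hx => by
      refine ⟨?_, ?_⟩
      · rw [hsymm, ← hfix 0, hsymm, hinv]; exact hx.1
      · rw [hsymm, ← hfix 1, hsymm, hinv]; exact hx.2
    obtain ⟨u', hu', hu'e⟩ : ∃ u', S u' ∧ e u' (ψ a'' u') = 1 := by
      by_contra hall
      push Not at hall
      refine hN' fun x y => ?_
      obtain ⟨x', i, j, hx', hx⟩ := hdec x
      have h2 : ∀ y, e (ψ a'' x') y = e x' y := fun y => by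
        obtain ⟨y', i, j, hy', hy⟩ := hdec y
        rw [hsymm, hy, hsymm x', hy, hsymm (T 0), hsymm (T 1), hST _ (hS'' x' hx'), hST _ (hS'' x' hx'),
          hsymm (T 0) x', hsymm (T 1) x', hx'.1, hx'.2,
          fixed_of_isotropic hadd hadd' halt hinv (hexp a'' ha'') hSm hS''
            (fun v hv => (hcase _).resolve_right (hall v hv)) hy' hx']
      rw [hmove, hx, ← hmove, ← hmove, ← hmove, h2, hfix, hfix, ← hx]
    set f := a * a'' with hf
    have hfA : f ∈ A := mul_mem haA ha''
    have hfT : ∀ i y, e (ψ f (T i)) y = e (T (i + 1)) y := fun i y => by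
      rw [hf, ← happ, hstep a _ _ (hfix i), hTs]
    have hfS : ∀ x, S x → S (ψ f x) := fun x hx => by rw [hf, ← happ]; exact hSa _ (hS'' x hx)
    rcases hkey f hfA t u' (fun i j => by
      have h1 : ∀ i y, e (ψ (f ^ i) t) y = e (T i) y := fun i => by
        induction i with
        | zero => intro y; rw [pow_zero, map_one, MulAut.one_apply, hT0]
        | succ i ih => intro y; rw [pow_succ', ← happ, hstep f _ _ ih, hfT]
      have h2 : ∀ j : ℕ, S (ψ (f ^ j) u') := fun j => by
        induction j with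
        | zero => simpa using hu'
        | succ j ih => rw [pow_succ', ← happ]; exact hfS _ ih
      rw [h1, hsymm]
      exact hST _ (h2 j) i) with h | h
    · rw [hsymm, ← hT0, hfT, h10] at h
      exact one_ne_zero h
    · rw [hsymm, hf, ← happ, haS _ (hS'' u' hu'), hsymm, hu'e] at h
      exact one_ne_zero h
  -- `a` is central modulo `N`
  haveI : Fact (Nat.Prime 3) := ⟨Nat.prime_three⟩
  set π := QuotientGroup.mk' N with hπ
  have hcentral : ∀ g : Γ, (a * g)⁻¹ * (g * a) ∈ N := by
    have hmap : A.map π = zpowers (π a) := by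
      refine le_antisymm ?_ (zpowers_le.2 (mem_map_of_mem π haA))
      rintro _ ⟨a', ha', rfl⟩
      obtain ⟨k, hk⟩ := hA a' ha'
      refine mem_zpowers_iff.2 ⟨k, ?_⟩
      rw [zpow_natCast, ← map_pow]
      exact (QuotientGroup.eq.2 hk)
    have hord : orderOf (π a) = 3 :=
      orderOf_eq_prime (by rw [← map_pow, ha3, map_one]) fun h => haN ((QuotientGroup.eq_one_iff a).1 h)
    haveI : (A.map π).Normal := Subgroup.Normal.map inferInstance π (QuotientGroup.mk'_surjective N)
    have hle := Fusion.le_center_of_card_eq_prime (hΓ.to_quotient N) (A.map π)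
      (by rw [hmap, Nat.card_zpowers, hord])
    intro g
    refine QuotientGroup.eq.1 ?_
    show π (a * g) = π (g * a)
    rw [map_mul, map_mul]
    exact (mem_center_iff.1 (hle (mem_map_of_mem π haA)) (π g)).symm
  obtain ⟨kb, hkb⟩ := hline b (hcentral b)
  obtain ⟨kc, hkc⟩ := hline c (hcentral c)
  have hbc : ∀ y, e (ψ (b * c) t) y = e (T (kc + kb)) y := fun y => by
    rw [← happ, ← hT0, hstep b _ _ (hkc 0), zero_add, hkb]
  have hcb : ∀ y, e (ψ (c * b) t) y = e (T (kc + kb)) y := fun y => by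
    rw [← happ, ← hT0, hstep c _ _ (hkb 0), zero_add, hkc, add_comm kb kc]
  have h : ∀ y, e (T (kc + kb + 1)) y = e (T (kc + kb)) y := fun y => by
    rw [← hTs, ← hstep a _ _ hcb, happ, show a * (c * b) = b * c by
      rw [hadef, commutatorElement_def]; group, hbc]
  have h2 := h (T (kc + kb))
  rw [halt, hsymm] at h2
  have hTT : ∀ m, e (T m) (T (m + 1)) = 1 := fun m => by
    induction m with
    | zero => exact h01
    | succ m ih => rw [← hTs m, ← hTs (m + 1), hinv]; exact ih
  rw [hTT] at h2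
  exact one_ne_zero h2

end Cfsg.Agent.PLength.QuadraticForm
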