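import Cfsg.Agent.PLength.AbelianNorm
import Cfsg.Agent.HallHigman.TheoremB
import Cfsg.Agent.OddLocal.NormalElementary
import Cfsg.Agent.Coprime.Generation
import Cfsg.Agent.Coprime.Elementary
import Cfsg.Agent.Fusion.Critical
import Cfsg.Agent.S0121
import Mathlib.GroupTheory.SemidirectProduct

/-!
If every element `y` of a `p`-group of linear maps (`p` odd) has order dividing `p ^ e` and zero norm,
then the powers `y ^ p ^ (e - 1)` commute in pairs.
-/

set_option autoImplicit false

namespace Cfsg.Agent.PLength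

open Subgroup
open scoped commutatorElement

universe u

variable {X : Type u} [Group X] [Finite X] {p : ℕ} [hp : Fact p.Prime]

/-- Alperin: an elementary abelian normal subgroup, maximal within a normal subgroup, contains the
elements of order `p` of that subgroup which centralise it. -/
theorem mem_of_maximal_elementary_within {G : Type u} [Group G] [Finite G] (hG : IsPGroup p G)
    (hodd : p ≠ 2) {K E : Subgroup G} [K.Normal] [E.Normal] (hEK : E ≤ K)
    (hE : Cfsg.IsElementaryAbelian p E)
    (hmax : ∀ B : Subgroup G, B.Normal → B ≤ K → Cfsg.IsElementaryAbelian p B → E ≤ B → B = E)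
    {x : G} (hxK : x ∈ K) (hx : x ∈ centralizer (E : Set G)) (hxp : x ^ p = 1) : x ∈ E := by
  haveI := hG.isNilpotent
  set C := K ⊓ centralizer (E : Set G) with hC
  suffices h : ∀ i : ℕ, ∀ x ∈ Subgroup.upperCentralSeries G i, x ∈ C → x ^ p = 1 → x ∈ E by
    exact h _ x (by rw [Subgroup.upperCentralSeries_nilpotencyClass]; exact mem_top _) ⟨hxK, hx⟩ hxp
  clear hx hxp hxK x
  intro i
  induction i with
  | zero =>
    intro x hx _ _
    rw [Subgroup.upperCentralSeries_zero, mem_bot] at hx
    exact hx ▸ one_mem E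
  | succ i ih =>
    intro x hx hxC hxp
    haveI hn : (Subgroup.upperCentralSeries G i ⊓ C).Normal := inferInstance
    have hdiff : ∀ g : G, x⁻¹ * (g * x * g⁻¹) ∈ E := by
      intro g
      set y := g * x * g⁻¹ with hy
      have hyp : y ^ p = 1 := by rw [hy, conj_pow, hxp, mul_one, mul_inv_cancel]
      have hyC : y ∈ C := (inferInstance : C.Normal).conj_mem x hxC g
      have hmem : x⁻¹ * y ∈ Subgroup.upperCentralSeries G i ⊓ C := by
        refine Subgroup.mem_inf.mpr ⟨?_, C.mul_mem (C.inv_mem hxC) hyC⟩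
        have := (Subgroup.mem_upperCentralSeries_succ_iff.mp (inv_mem hx)) g
        simpa [hy, commutatorElement_def, mul_assoc] using this
      refine ih _ hmem.1 hmem.2 (OddLocal.pow_eq_one_of_coset hG hodd hxp hyp hmem fun n hn hnp => ?_)
      have hnE := ih n hn.1 hn.2 hnp
      exact ⟨mem_centralizer_iff.mp hxC.2 n hnE, mem_centralizer_iff.mp hyC.2 n hnE⟩
    set B := E ⊔ zpowers x with hB
    have hBn : B.Normal := by
      refine ⟨fun b hb g => ?_⟩
      have hle : B ≤ B.comap (MulAut.conj g).toMonoidHom := by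
        refine sup_le (fun e he => ?_) (zpowers_le.mpr ?_)
        · exact mem_sup_left ((inferInstance : E.Normal).conj_mem e he g)
        · show g * x * g⁻¹ ∈ B
          rw [show g * x * g⁻¹ = x * (x⁻¹ * (g * x * g⁻¹)) by group]
          exact mul_mem (mem_sup_right (mem_zpowers x)) (mem_sup_left (hdiff g))
      exact hle hb
    have hBK : B ≤ K := sup_le hEK (zpowers_le.mpr hxC.1)
    have hBe : Cfsg.IsElementaryAbelian p B := by
      have hxE : E ≤ centralizer (zpowers x : Set G) :=
        le_centralizer_iff.mpr (zpowers_le.mpr hxC.2)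
      haveI := hE.1
      refine ⟨Fusion.isMulCommutative_sup_of_le_centralizer hE.1 inferInstance hxE, fun b hb => ?_⟩
      obtain ⟨e, he, z, hz, rfl⟩ := (Coprime.mem_sup_of_le_normalizer
        (N := E) (A := zpowers x) le_normalizer_of_normal).mp hb
      obtain ⟨j, rfl⟩ := mem_zpowers_iff.mp hz
      rw [(show Commute e (x ^ j) from
        (mem_centralizer_iff.mp (hxE he) (x ^ j) (zpow_mem (mem_zpowers x) j)).symm).mul_pow,
        hE.2 e he, one_mul, ← zpow_natCast, ← zpow_mul, mul_comm, zpow_mul, zpow_natCast, hxp,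
        one_zpow]
    exact hmax B hBn hBK hBe le_sup_left ▸ mem_sup_right (mem_zpowers x)

omit [Finite X] in
theorem mem_comap_conj {S : Subgroup X} {g x : X} :
    x ∈ S.comap (MulAut.conj g).toMonoidHom ↔ g * x * g⁻¹ ∈ S := Iff.rfl

/-- A subgroup with cyclic quotient in an elementary abelian group and one of its other conjugates
generate that group. -/
theorem exists_mul_conj {D H : Subgroup X} (hD : Cfsg.IsElementaryAbelian p D) (hHD : H ≤ D) {a : X}
    (ha : a ∈ D) (hgen : H ⊔ zpowers a = D) {z : X} (hzD : z ∈ normalizer (D : Set X))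
    (hz : z ∉ normalizer (H : Set X)) :
    ∀ d ∈ D, ∃ h ∈ H, ∃ h' ∈ H, d = h * (z * h' * z⁻¹) := by
  obtain ⟨h0, hh0, hout⟩ : ∃ h0 ∈ H, z * h0 * z⁻¹ ∉ H := by
    by_contra hall
    push Not at hall
    refine hz (mem_normalizer_iff_map_conj_eq.2 (Subgroup.eq_of_le_of_card_ge ?_ ?_))
    · rintro _ ⟨h, hh, rfl⟩
      exact hall h hh
    · rw [card_map_of_injective (MulAut.conj z).injective]
  have hcomm : ∀ {u v : X}, u ∈ D → v ∈ D → Commute u v := fun hu hv => Coprime.ea_comm hD hu hv
  have hmem : ∀ {w : X}, w ∈ H ⊔ zpowers a → ∃ h ∈ H, ∃ i : ℤ, w = h * a ^ i := by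
    intro w hw
    have hn : zpowers a ≤ normalizer (H : Set X) := by
      refine zpowers_le.2 (mem_normalizer_iff.2 fun n => ⟨fun hn => ?_, fun hn => ?_⟩)
      · rwa [(hcomm ha (hHD hn)).eq, mul_inv_cancel_right]
      · have h1 : n = a⁻¹ * (a * n * a⁻¹) * a := by group
        rw [h1]
        rwa [(hcomm (inv_mem ha) (hHD hn)).eq, inv_mul_cancel_right]
    obtain ⟨h, hh, z', hz', rfl⟩ := (Coprime.mem_sup_of_le_normalizer hn).1 hw
    obtain ⟨i, rfl⟩ := mem_zpowers_iff.1 hz'
    exact ⟨h, hh, i, rfl⟩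
  have hz0 : z * h0 * z⁻¹ ∈ D := (mem_normalizer_iff.1 hzD h0).1 (hHD hh0)
  obtain ⟨h1, hh1, k, hk⟩ := hmem (hgen.symm ▸ hz0)
  have hkp : ¬ (p : ℤ) ∣ k := fun ⟨c, hc⟩ => hout (by
    rw [hk, hc, zpow_mul, zpow_natCast, hD.2 a ha, one_zpow, mul_one]; exact hh1)
  obtain ⟨r, s, hrs⟩ := ((Nat.prime_iff_prime_int.mp hp.out).coprime_iff_not_dvd).mpr hkp
  intro d hd
  obtain ⟨h, hh, i, rfl⟩ := hmem (hgen.symm ▸ hd)
  refine ⟨h * (h1 ^ (s * i))⁻¹, mul_mem hh (inv_mem (zpow_mem hh1 _)), h0 ^ (s * i), zpow_mem hh0 _, ?_⟩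
  rw [← conj_zpow, hk, (hcomm (hHD hh1) (zpow_mem ha k)).mul_zpow, mul_assoc, inv_mul_cancel_left, ← zpow_mul]
  congr 1
  rw [zpow_eq_zpow_iff_modEq, Int.modEq_iff_dvd]
  refine dvd_trans (Int.natCast_dvd_natCast.2 (orderOf_dvd_of_pow_eq_one (hD.2 a ha))) ⟨-(r * i), ?_⟩
  linear_combination i * hrs

/-- The commutation lemma for a faithful coprime action on a group of class at most two. -/
theorem commute_top_powers_faithful (hodd : p ≠ 2) {C P : Subgroup X} (hP : IsPGroup p P)
    (hPC : P ≤ normalizer (C : Set X)) (hcop : (Nat.card P).Coprime (Nat.card C))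
    (hclass : ∀ a ∈ C, ∀ b ∈ C, ∀ c ∈ C, Commute ⁅a, b⁆ c) (hfaith : P ⊓ centralizer (C : Set X) = ⊥)
    {n : ℕ} (hn : 1 ≤ n) (hexp : ∀ y ∈ P, y ^ p ^ n = 1)
    (hfix : ∀ y ∈ P, ∀ A : Subgroup X, A ≤ C → IsMulCommutative A → y ∈ normalizer (A : Set X) →
      ∀ a ∈ A, Commute (y ^ p ^ (n - 1)) a)
    {y z : X} (hy : y ∈ P) (hz : z ∈ P) : Commute (y ^ p ^ (n - 1)) (z ^ p ^ (n - 1)) := by
  classical
  set Z := C ⊓ centralizer (C : Set X) with hZ
  have hZcomm : IsMulCommutative Z := IsMulCommutative.of_setLike_mul_comm fun a ha b hb =>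
    mem_centralizer_iff.1 hb.2 a ha.1
  have hPZ : P ≤ normalizer (Z : Set X) :=
    Coprime.le_normalizer_inf hPC (Coprime.le_normalizer_centralizer hPC)
  set Kp := (P ⊓ centralizer (Z : Set X)).subgroupOf P with hKp
  haveI : Kp.Normal := normal_subgroupOf_of_le_normalizer
    (Coprime.le_normalizer_inf Subgroup.le_normalizer (Coprime.le_normalizer_centralizer hPZ))
  obtain ⟨Dp, ⟨hDn, hDK, hDe⟩, hmax⟩ := Set.Finite.exists_maximal
    (Set.toFinite {D : Subgroup P | D.Normal ∧ D ≤ Kp ∧ Cfsg.IsElementaryAbelian p D})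
    ⟨⊥, inferInstance, bot_le, inferInstance, fun a ha => by rw [mem_bot.mp ha, one_pow]⟩
  haveI := hDn
  set D := Dp.map P.subtype with hD
  have hDP : D ≤ P := map_subtype_le _
  haveI hDc : IsMulCommutative D := by
    refine IsMulCommutative.of_setLike_mul_comm ?_
    rintro _ ⟨a, ha, rfl⟩ _ ⟨b, hb, rfl⟩
    exact congrArg Subtype.val (Coprime.ea_comm hDe ha hb : a * b = b * a)
  have hDea : Cfsg.IsElementaryAbelian p D := ⟨hDc, by
    rintro _ ⟨a, ha, rfl⟩
    exact congrArg Subtype.val (hDe.2 a ha)⟩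
  have hPD : P ≤ normalizer (D : Set X) := fun g hg => by
    rw [mem_normalizer_iff_map_conj_eq]
    refine Subgroup.eq_of_le_of_card_ge ?_ (card_map_of_injective (MulAut.conj g).injective).ge
    rintro _ ⟨_, ⟨a, ha, rfl⟩, rfl⟩
    exact ⟨_, hDn.conj_mem a ha ⟨g, hg⟩, rfl⟩
  have hDfix : ∀ d ∈ D, ∀ w ∈ Z, Commute d w := by
    rintro _ ⟨a, ha, rfl⟩ w hw
    exact (mem_centralizer_iff.1 (hDK ha : (a : X) ∈ P ⊓ centralizer (Z : Set X)).2 w hw).symm
  have hcopD : (Nat.card D).Coprime (Nat.card C) := hcop.coprime_dvd_left (card_dvd_of_le hDP)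
  have hDC : D ≤ normalizer (C : Set X) := hDP.trans hPC
  have key : ∀ y ∈ P, y ^ p ^ (n - 1) ∈ D := by
    intro y hy
    set σ := y ^ p ^ (n - 1) with hσ
    have hσP : σ ∈ P := pow_mem hy _
    have hσp : σ ^ p = 1 := by
      rw [hσ, ← pow_mul, ← pow_succ, Nat.sub_add_cancel hn, hexp y hy]
    have hσK : σ ∈ P ⊓ centralizer (Z : Set X) := ⟨hσP, mem_centralizer_iff.2 fun w hw =>
      ((hfix y hy Z inf_le_left hZcomm (hPZ hy) w hw).symm).eq⟩
    have hcent : ∀ d ∈ D, Commute d σ := by
      intro d hd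
      rw [← commutatorElement_eq_one_iff_commute]
      have hdσ : ⁅d, σ⁆ ∈ D := by
        rw [commutatorElement_def, mul_assoc, mul_assoc]
        refine mul_mem hd ?_
        rw [← mul_assoc]
        exact (mem_normalizer_iff.1 (hPD hσP) _).1 (inv_mem hd)
      suffices C ≤ centralizer ({⁅d, σ⁆} : Set X) from
        Subgroup.mem_bot.1 (hfaith ▸ ⟨hDP hdσ, mem_centralizer_iff.2 fun c hc =>
          (mem_centralizer_singleton_iff.1 (this hc))⟩)
      conv_lhs => rw [← Coprime.iSup_cocyclic_centralizer_eq hDC hcopD]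
      refine iSup₂_le fun H hH => ?_
      obtain ⟨hHD, a, ha, hgen⟩ := hH
      set CH := C ⊓ centralizer (H : Set X) with hCH
      have hDH : D ≤ normalizer (H : Set X) := fun g hg => by
        rw [mem_normalizer_iff_map_conj_eq]
        refine Subgroup.eq_of_le_of_card_ge ?_ (card_map_of_injective (MulAut.conj g).injective).ge
        rintro _ ⟨h, hh, rfl⟩
        show g * h * g⁻¹ ∈ H
        rwa [setLike_mul_comm (s := D) hg (hHD hh), mul_inv_cancel_right]
      have hDCH : D ≤ normalizer (CH : Set X) :=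
        Coprime.le_normalizer_inf hDC (Coprime.le_normalizer_centralizer hDH)
      set T := ⁅CH, D⁆ with hT
      have hTCH : T ≤ CH := Coprime.commutator_le_of_le_normalizer hDCH
      have hTD : ⁅T, D⁆ = T := Coprime.commutator_commutator_eq hDCH
        (hcopD.coprime_dvd_right (card_dvd_of_le inf_le_left))
        (Or.inl (haveI := (hP.to_le hDP).isNilpotent; inferInstance))
      by_cases hσH : σ ∈ normalizer (H : Set X)
      · -- `⁅d, σ⁆` lies in `H`
        have hmem : ∀ {w : X}, w ∈ D → ∃ h ∈ H, ∃ i : ℤ, w = h * a ^ i := by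
          intro w hw
          obtain ⟨h, hh, z', hz', rfl⟩ :=
            (Coprime.mem_sup_of_le_normalizer (zpowers_le.2 (hDH ha))).1 (hgen.symm ▸ hw)
          obtain ⟨i, rfl⟩ := mem_zpowers_iff.1 hz'
          exact ⟨h, hh, i, rfl⟩
        obtain ⟨h₁, hh₁, k, hk⟩ := hmem ((mem_normalizer_iff.1 (hPD hσP) a).1 ha)
        have hstep : ∀ i : ℤ, σ * a ^ i * σ⁻¹ * (a ^ (k * i))⁻¹ ∈ H := fun i => by
          rw [← conj_zpow, hk, Commute.mul_zpow (Coprime.ea_comm hDea (hHD hh₁) (zpow_mem ha k)), ← zpow_mul,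
            mul_inv_cancel_right]
          exact zpow_mem hh₁ i
        have hiter : ∀ j : ℕ, σ ^ j * a * (σ ^ j)⁻¹ * (a ^ (k ^ j))⁻¹ ∈ H := by
          intro j
          induction j with
          | zero => simp
          | succ j ih =>
            have h2 := mul_mem ((mem_normalizer_iff.1 hσH _).1 ih) (hstep (k ^ j))
            rw [show k ^ (j + 1) = k * k ^ j by ring, pow_succ' σ]
            convert h2 using 1
            group
        have hkp : a ∈ H ∨ (p : ℤ) ∣ k - 1 := by
          by_cases haH : a ∈ H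
          · exact Or.inl haH
          right
          have h3 := hiter p
          rw [hσp, inv_one, one_mul, mul_one] at h3
          have h4 : (p : ℤ) ∣ k ^ p - 1 := by
            by_contra hnd
            obtain ⟨r, s, hrs⟩ := ((Nat.prime_iff_prime_int.mp hp.out).coprime_iff_not_dvd).mpr hnd
            refine haH ?_
            have h5 : a ^ (k ^ p - 1) ∈ H := by
              rw [zpow_sub, zpow_one]
              simpa using inv_mem h3
            rw [← zpow_one a, ← hrs, zpow_add, mul_comm r, zpow_mul, zpow_natCast, hDea.2 a ha,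
              one_zpow, one_mul, mul_comm s, zpow_mul]
            exact zpow_mem h5 s
          rw [← ZMod.intCast_zmod_eq_zero_iff_dvd] at h4 ⊢
          rwa [Int.cast_sub, Int.cast_pow, ZMod.pow_card, ← Int.cast_sub] at h4
        obtain ⟨h, hh, i, hdi⟩ := hmem hd
        have hin : ⁅d, σ⁆ ∈ H := by
          have h6 : σ * d * σ⁻¹ * (a ^ (k * i))⁻¹ ∈ H := by
            rw [hdi, show σ * (h * a ^ i) * σ⁻¹ * (a ^ (k * i))⁻¹ =
              (σ * h * σ⁻¹) * (σ * a ^ i * σ⁻¹ * (a ^ (k * i))⁻¹) by group]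
            exact mul_mem ((mem_normalizer_iff.1 hσH h).1 hh) (hstep i)
          have h7 : a ^ i * (a ^ (k * i))⁻¹ ∈ H := by
            rcases hkp with haH | ⟨c, hc⟩
            · exact mul_mem (zpow_mem haH _) (inv_mem (zpow_mem haH _))
            · rw [← zpow_sub, show i - k * i = (p : ℤ) * (-(c * i)) by
                linear_combination (-i) * hc, zpow_mul, zpow_natCast, hDea.2 a ha, one_zpow]
              exact one_mem H
          have h8 : ⁅d, σ⁆ = h * (a ^ i * (a ^ (k * i))⁻¹) * (σ * d * σ⁻¹ * (a ^ (k * i))⁻¹)⁻¹ := by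
            rw [commutatorElement_def]
            conv_lhs => enter [1, 1, 1]; rw [hdi]
            group
          rw [h8]
          exact mul_mem (mul_mem hh h7) (inv_mem h6)
        exact fun c hc => mem_centralizer_singleton_iff.2 (mem_centralizer_iff.1 hc.2 _ hin).symm
      · -- `T` is trivial
        have hTb : T = ⊥ := by
          have hyo : orderOf y = p ^ n := by
            obtain ⟨m, hm⟩ : ∃ m, n = m + 1 := ⟨n - 1, by omega⟩
            subst hm
            refine orderOf_eq_prime_pow (fun h => hσH ?_) (hexp y hy)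
            rw [hσ, Nat.add_sub_cancel, h]
            exact one_mem _
          have hnot : ∀ w ∈ zpowers y, w ≠ 1 → w ∉ normalizer (H : Set X) := fun w hw hw1 hwH =>
            hσH (zpowers_le.2 hwH (HallHigman.sigma_mem_zpowers hyo hw hw1))
          have hzD : ∀ w ∈ zpowers y, w ∈ normalizer (D : Set X) := fun w hw =>
            hPD (zpowers_le.2 hy hw)
          have hTT : ∀ b ∈ T, ∀ w ∈ zpowers y, w ≠ 1 → ∀ b' ∈ T, Commute b (w * b' * w⁻¹) := by
            intro b hb w hw hw1 b' hb'
            have hle : T ≤ (centralizer ({b} : Set X)).comap (MulAut.conj w).toMonoidHom := by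
              rw [← hTD, commutator_le]
              intro t ht d hd
              rw [hTD] at *
              rw [mem_comap_conj, mem_centralizer_singleton_iff]
              set t' := w * t * w⁻¹ with ht'
              obtain ⟨h, hh, h', hh', hdd⟩ := exists_mul_conj hDea hHD ha hgen (hzD w hw)
                (hnot w hw hw1) _ ((mem_normalizer_iff.1 (hzD w hw) d).1 hd)
              have hc' : Commute t' (w * h' * w⁻¹) :=
                ((Commute.conj_iff w).2 (mem_centralizer_iff.1 (hTCH ht).2 h' hh').symm)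
              have ht'C : t' ∈ C := (mem_normalizer_iff.1 (hPC (zpowers_le.2 hy hw)) t).1 (hTCH ht).1
              have hbC : b ∈ C := (hTCH hb).1
              have hbh : Commute h b := mem_centralizer_iff.1 (hTCH hb).2 h hh
              have hhC : h * t' * h⁻¹ ∈ C := (mem_normalizer_iff.1 (hDC (hHD hh)) t').1 ht'C
              have hwZ : ⁅b, t'⁆ ∈ Z := ⟨by
                rw [commutatorElement_def]
                exact C.mul_mem (C.mul_mem (C.mul_mem hbC ht'C) (C.inv_mem hbC)) (C.inv_mem ht'C),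
                mem_centralizer_iff.2 fun c hc => (hclass b hbC t' ht'C c hc).symm⟩
              have he : ⁅b, h * t' * h⁻¹⁆ = ⁅b, t'⁆ := by
                have h1 : h * ⁅b, t'⁆ * h⁻¹ = ⁅b, t'⁆ := by
                  rw [(hDfix h (hHD hh) _ hwZ).eq, mul_inv_cancel_right]
                have h2 : h * b * h⁻¹ = b := by rw [hbh.eq, mul_inv_cancel_right]
                have h3 : h * ⁅b, t'⁆ * h⁻¹ = ⁅h * b * h⁻¹, h * t' * h⁻¹⁆ := by
                  simp only [commutatorElement_def]; group
                rw [h1, h2] at h3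
                exact h3.symm
              have hgoal : w * ⁅t, d⁆ * w⁻¹ = t' * (h * t' * h⁻¹)⁻¹ := by
                have h4 : w * ⁅t, d⁆ * w⁻¹ = ⁅t', w * d * w⁻¹⁆ := by
                  simp only [commutatorElement_def, ht']; group
                rw [h4, hdd, commutatorElement_def]
                calc t' * (h * (w * h' * w⁻¹)) * t'⁻¹ * (h * (w * h' * w⁻¹))⁻¹
                    = t' * h * ((w * h' * w⁻¹) * t'⁻¹) * (w * h' * w⁻¹)⁻¹ * h⁻¹ := by group
                  _ = t' * h * (t'⁻¹ * (w * h' * w⁻¹)) * (w * h' * w⁻¹)⁻¹ * h⁻¹ := by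
                      rw [hc'.inv_left.eq]
                  _ = _ := by group
              rw [hgoal]
              symm
              have h5 : b * (t' * (h * t' * h⁻¹)⁻¹) * b⁻¹ =
                  ⁅b, t'⁆ * (t' * (h * t' * h⁻¹)⁻¹) * ⁅b, h * t' * h⁻¹⁆⁻¹ := by
                simp only [commutatorElement_def]; group
              rw [he, (hclass b hbC t' ht'C _ (mul_mem ht'C (inv_mem hhC))).eq,
                mul_inv_cancel_right] at h5
              exact mul_inv_eq_iff_eq_mul.1 h5
            exact (mem_centralizer_singleton_iff.1 (mem_comap_conj.1 (hle hb'))).symm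
          have hσT : ∀ b ∈ T, Commute σ b := by
            intro b hb
            let O : Set X := {c | ∃ w ∈ zpowers y, c = w * b * w⁻¹}
            have hOC : closure O ≤ C := by
              rw [closure_le]
              rintro _ ⟨w, hw, rfl⟩
              exact (mem_normalizer_iff.1 (hPC (zpowers_le.2 hy hw)) b).1 (hTCH hb).1
            have hOc : ∀ c ∈ O, ∀ c' ∈ O, Commute c c' := by
              rintro _ ⟨w, hw, rfl⟩ _ ⟨w', hw', rfl⟩
              by_cases hww : w⁻¹ * w' = 1
              · rw [inv_mul_eq_one.1 hww]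
              · have h1 := (Commute.conj_iff w).2
                  (hTT b hb (w⁻¹ * w') (mul_mem (inv_mem hw) hw') hww b hb)
                convert h1 using 1
                group
            have hAc : IsMulCommutative (closure O) := by
              have h1 : closure O ≤ centralizer (closure O : Set X) := by
                rw [le_centralizer_iff, closure_le]
                intro c hc
                rw [SetLike.mem_coe, mem_centralizer_iff]
                intro c' hc'
                have h2 : closure O ≤ centralizer ({c} : Set X) := by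
                  rw [closure_le]
                  exact fun c'' hc'' => mem_centralizer_singleton_iff.2 (hOc c'' hc'' c hc)
                exact mem_centralizer_singleton_iff.1 (h2 hc')
              exact IsMulCommutative.of_setLike_mul_comm fun a ha b hb =>
                mem_centralizer_iff.1 (h1 hb) a ha
            refine hfix y hy _ hOC hAc ?_ b (subset_closure ⟨1, one_mem _, by group⟩)
            rw [mem_normalizer_iff_map_conj_eq]
            refine Subgroup.eq_of_le_of_card_ge ?_ (card_map_of_injective (MulAut.conj y).injective).ge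
            rw [MonoidHom.map_closure, closure_le]
            rintro _ ⟨_, ⟨w, hw, rfl⟩, rfl⟩
            refine subset_closure ⟨y * w, mul_mem (mem_zpowers y) hw, ?_⟩
            show y * (w * b * w⁻¹) * y⁻¹ = _
            group
          refine le_bot_iff.1 ?_
          rw [← hTD, le_bot_iff, commutator_eq_bot_iff_le_centralizer]
          intro b hb
          rw [mem_centralizer_iff]
          intro d' hd'
          obtain ⟨h, hh, h', hh', rfl⟩ :=
            exists_mul_conj hDea hHD ha hgen (hPD hσP) hσH d' hd'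
          have hbh : Commute h b := mem_centralizer_iff.1 (hTCH hb).2 h hh
          have hbh' : Commute h' b := mem_centralizer_iff.1 (hTCH hb).2 h' hh'
          exact (hbh.mul_left (((hσT b hb).mul_left hbh').mul_left (hσT b hb).inv_left)).eq
        intro c hc
        have hDc' := commutator_eq_bot_iff_le_centralizer.1 hTb hc
        exact mem_centralizer_singleton_iff.2 (mem_centralizer_iff.1 hDc' _ hdσ).symm
    have hmem := mem_of_maximal_elementary_within (G := P) hP hodd hDK hDe
      (fun B hB hBK hBe hle => le_antisymm (hmax ⟨hB, hBK, hBe⟩ hle) hle) (x := ⟨σ, hσP⟩)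
      (mem_subgroupOf.2 hσK) (mem_centralizer_iff.2 fun d hd => Subtype.ext
        (hcent d (mem_map_of_mem P.subtype hd)).eq) (Subtype.ext hσp)
    exact ⟨⟨σ, hσP⟩, hmem, rfl⟩
  exact setLike_mul_comm (s := D) (key y hy) (key z hz)

/-- The commutation lemma for a coprime action on a group of class at most two. -/
theorem commutator_top_powers_mem (hodd : p ≠ 2) {C P : Subgroup X} (hP : IsPGroup p P)
    (hPC : P ≤ normalizer (C : Set X)) (hcop : (Nat.card P).Coprime (Nat.card C))
    (hclass : ∀ a ∈ C, ∀ b ∈ C, ∀ c ∈ C, Commute ⁅a, b⁆ c)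
    {n : ℕ} (hn : 1 ≤ n) (hexp : ∀ y ∈ P, y ^ p ^ n = 1)
    (hfix : ∀ y ∈ P, ∀ A : Subgroup X, A ≤ C → IsMulCommutative A → y ∈ normalizer (A : Set X) →
      ∀ a ∈ A, Commute (y ^ p ^ (n - 1)) a)
    {y z : X} (hy : y ∈ P) (hz : z ∈ P) :
    ⁅y ^ p ^ (n - 1), z ^ p ^ (n - 1)⁆ ∈ centralizer (C : Set X) := by
  classical
  let φ : ↥P →* MulAut ↥C := C.normalizerMonoidHom.comp (Subgroup.inclusion hPC)
  let Y := ↥C ⋊[φ.range.subtype] ↥φ.range
  haveI : Finite Y := Finite.of_equiv _ (SemidirectProduct.equivProd (φ := φ.range.subtype)).symm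
  let il : ↥C →* Y := SemidirectProduct.inl
  let ir : ↥φ.range →* Y := SemidirectProduct.inr
  have hconj : ∀ (u : P) (c : C), ir (φ.rangeRestrict u) * il c * (ir (φ.rangeRestrict u))⁻¹ = il (φ u c) :=
    fun u c => by
      rw [← map_inv ir]
      exact (SemidirectProduct.inl_aut (φ := φ.range.subtype) (φ.rangeRestrict u) c).symm
  have hmain : Commute (ir (φ.rangeRestrict ⟨y, hy⟩) ^ p ^ (n - 1))
      (ir (φ.rangeRestrict ⟨z, hz⟩) ^ p ^ (n - 1)) := by
    refine commute_top_powers_faithful hodd (C := il.range) (P := ir.range)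
      ((hP.of_surjective _ φ.rangeRestrict_surjective).of_surjective _ ir.rangeRestrict_surjective)
      ?_ ?_ ?_ ?_ hn ?_ ?_ ⟨_, rfl⟩ ⟨_, rfl⟩
    · haveI : il.range.Normal := by
        rw [show il.range = _ from SemidirectProduct.range_inl_eq_ker_rightHom]
        exact MonoidHom.normal_ker _
      exact le_normalizer_of_normal
    · exact (hcop.coprime_dvd_left ((card_range_dvd ir).trans (card_range_dvd φ))).coprime_dvd_right
        (card_range_dvd il)
    · rintro _ ⟨a, rfl⟩ _ ⟨b, rfl⟩ _ ⟨c, rfl⟩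
      rw [← map_commutatorElement]
      exact (show Commute ⁅a, b⁆ c from Subtype.ext (hclass a a.2 b b.2 c c.2).eq).map il
    · rw [eq_bot_iff]
      rintro _ ⟨⟨⟨_, u, rfl⟩, rfl⟩, hu⟩
      rw [Subgroup.mem_bot, show (⟨φ u, _⟩ : φ.range) = φ.rangeRestrict u from rfl]
      have h1 : φ u = 1 := MulEquiv.ext fun c => by
        have h2 := hconj u c
        rw [show ir (φ.rangeRestrict u) * il c = il c * ir (φ.rangeRestrict u) from
          ((mem_centralizer_iff.1 hu) _ ⟨c, rfl⟩).symm, mul_inv_cancel_right] at h2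
        exact (SemidirectProduct.inl_injective h2).symm
      rw [show φ.rangeRestrict u = 1 from Subtype.ext h1, map_one]
    · rintro _ ⟨⟨_, u, rfl⟩, rfl⟩
      rw [← map_pow, show (⟨φ u, _⟩ : φ.range) = φ.rangeRestrict u from rfl, ← map_pow,
        show u ^ p ^ n = 1 from Subtype.ext (hexp u u.2), map_one, map_one]
    · rintro _ ⟨⟨_, u, rfl⟩, rfl⟩ A hA hAc hu a ha
      rw [show (⟨φ u, _⟩ : φ.range) = φ.rangeRestrict u from rfl] at hu ⊢
      obtain ⟨c, rfl⟩ := hA ha
      have hAC : ((A.comap il).map C.subtype) ≤ C := map_subtype_le _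
      have h := hfix u u.2 _ hAC (IsMulCommutative.of_setLike_mul_comm (by
        rintro _ ⟨b, hb, rfl⟩ _ ⟨b', hb', rfl⟩
        show ((b * b' : C) : X) = ((b' * b : C) : X)
        refine congrArg Subtype.val ?_
        apply SemidirectProduct.inl_injective (φ := φ.range.subtype)
        rw [map_mul, map_mul]
        exact setLike_mul_comm (s := A) hb hb')) (by
        rw [mem_normalizer_iff_map_conj_eq]
        refine Subgroup.eq_of_le_of_card_ge ?_ (card_map_of_injective (MulAut.conj (u : X)).injective).ge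
        rintro _ ⟨_, ⟨b, hb, rfl⟩, rfl⟩
        refine ⟨φ u b, ?_, rfl⟩
        show il (φ u b) ∈ A
        rw [← hconj]
        exact (mem_normalizer_iff.1 hu _).1 hb) c ⟨c, ha, rfl⟩
      have h1 : φ (u ^ p ^ (n - 1)) c = c := Subtype.ext (by
        show ((u ^ p ^ (n - 1) : P) : X) * c * ((u ^ p ^ (n - 1) : P) : X)⁻¹ = c
        rw [SubgroupClass.coe_pow, h.eq, mul_inv_cancel_right])
      have h2 := hconj (u ^ p ^ (n - 1)) c
      rw [h1, map_pow, map_pow] at h2
      exact mul_inv_eq_iff_eq_mul.1 h2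
  rw [← map_pow, ← map_pow, ← map_pow, ← map_pow, ← commutatorElement_eq_one_iff_commute,
    ← map_commutatorElement, ← map_commutatorElement] at hmain
  have h3 : φ.rangeRestrict ⁅(⟨y, hy⟩ : P) ^ p ^ (n - 1), (⟨z, hz⟩ : P) ^ p ^ (n - 1)⁆ = 1 :=
    SemidirectProduct.inr_injective (hmain.trans (map_one ir).symm)
  rw [mem_centralizer_iff]
  intro c hc
  have h4 : φ ⁅(⟨y, hy⟩ : P) ^ p ^ (n - 1), (⟨z, hz⟩ : P) ^ p ^ (n - 1)⁆ ⟨c, hc⟩ = ⟨c, hc⟩ :=
    DFunLike.congr_fun (congrArg Subtype.val h3) _
  have h5 : ⁅y ^ p ^ (n - 1), z ^ p ^ (n - 1)⁆ * c * ⁅y ^ p ^ (n - 1), z ^ p ^ (n - 1)⁆⁻¹ = c :=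
    congrArg Subtype.val h4
  exact (mul_inv_eq_iff_eq_mul.1 h5).symm

/-- Elements of zero norm: the top powers commute in pairs. -/
theorem commute_top_powers_of_norm_zero {W : Type u} [AddCommGroup W] [Module (ZMod p) W] [Finite W]
    (hodd : p ≠ 2) (ρ : X →* Module.End (ZMod p) W) (hinj : Function.Injective ρ)
    {N P : Subgroup X} [N.Normal] (hNcop : (Nat.card N).Coprime p)
    (hN : centralizer (N : Set X) ≤ N) (hP : IsPGroup p P) {n : ℕ} (hn : 1 ≤ n)
    (hexp : ∀ y ∈ P, y ^ p ^ n = 1)
    (hnorm : ∀ y ∈ P, ∑ j ∈ Finset.range (p ^ n), ρ (y ^ j) = 0)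
    {y z : X} (hy : y ∈ P) (hz : z ∈ P) : Commute (y ^ p ^ (n - 1)) (z ^ p ^ (n - 1)) := by
  classical
  rw [← commutatorElement_eq_one_iff_commute]
  set c := ⁅y ^ p ^ (n - 1), z ^ p ^ (n - 1)⁆ with hc
  have hcP : c ∈ P := by
    rw [hc, commutatorElement_def]
    exact mul_mem (mul_mem (mul_mem (pow_mem hy _) (pow_mem hz _)) (inv_mem (pow_mem hy _)))
      (inv_mem (pow_mem hz _))
  have hPN : (Nat.card P).Coprime (Nat.card N) := by
    obtain ⟨j, hj⟩ := IsPGroup.iff_card.1 hP
    rw [hj]
    exact Nat.Coprime.pow_left j hNcop.symm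
  have hfix : ∀ y ∈ P, ∀ A : Subgroup X, A ≤ N → IsMulCommutative A → y ∈ normalizer (A : Set X) →
      ∀ a ∈ A, Commute (y ^ p ^ (n - 1)) a := by
    intro y hy A hAN hAc hyA a ha
    by_contra hne
    haveI := hAc
    refine norm_ne_zero ρ A (hNcop.coprime_dvd_left (card_dvd_of_le hAN)) hyA hn (hexp y hy) ha
      (fun h => hne (mul_inv_eq_iff_eq_mul.1 (mul_inv_eq_one.1 (hinj (h.trans (map_one ρ).symm))))) (hnorm y hy)
  have hcN : c ∈ centralizer (N : Set X) := by
    suffices N ≤ centralizer ({c} : Set X) from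
      mem_centralizer_iff.2 fun k hk => mem_centralizer_singleton_iff.1 (this hk)
    refine subgroupOf_eq_top.1 (index_eq_one.1 ?_)
    by_contra hne
    obtain ⟨q, hq, hqd⟩ := Nat.exists_prime_and_dvd hne
    haveI := Fact.mk hq
    obtain ⟨Q, hQ⟩ := Coprime.exists_invariant_sylow (A := P) (K := N) le_normalizer_of_normal hPN
      (Or.inl (haveI := hP.isNilpotent; inferInstance)) q
    refine Q.not_dvd_index (hqd.trans (index_dvd_of_le fun w hw => ?_))
    set Q' := (Q : Subgroup N).map N.subtype with hQ'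
    have hQp : IsPGroup q Q' := Q.2.map _
    obtain ⟨H, hH, hH1, hH2, hH3, hH4⟩ := Fusion.exists_critical hQp
    haveI := hH
    set C := H.map Q'.subtype with hC
    have hCN : C ≤ N := (map_subtype_le _).trans (map_subtype_le _)
    have hPC : P ≤ normalizer (C : Set X) := fun g hg => by
      rw [mem_normalizer_iff_map_conj_eq]
      have h1 : H.map (Q'.normalizerMonoidHom ⟨g, hQ hg⟩).toMonoidHom = H :=
        characteristic_iff_map_eq.mp inferInstance _
      conv_rhs => rw [hC, ← h1]
      rw [hC, Subgroup.map_map, Subgroup.map_map]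
      rfl
    have hclass : ∀ a ∈ C, ∀ b ∈ C, ∀ d ∈ C, Commute ⁅a, b⁆ d := by
      rintro _ ⟨a, ha, rfl⟩ _ ⟨b, hb, rfl⟩ _ ⟨d, hd, rfl⟩
      rw [← map_commutatorElement]
      refine Commute.map ?_ Q'.subtype
      have h1 := hH1 (commutator_mem_commutator (mem_top (⟨a, ha⟩ : H)) (mem_top ⟨b, hb⟩))
      exact (congrArg Subtype.val (mem_center_iff.1 h1 ⟨d, hd⟩)).symm
    have hcC : c ∈ centralizer (C : Set X) :=
      commutator_top_powers_mem hodd hP hPC (hPN.coprime_dvd_right (card_dvd_of_le hCN)) hclass hn hexp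
        (fun y hy A hA => hfix y hy A (hA.trans hCN)) hy hz
    refine mem_subgroupOf.2 (mem_centralizer_singleton_iff.2 ?_)
    set α := Q'.normalizerMonoidHom ⟨c, hQ hcP⟩ with hα
    rcases eq_or_ne q p with rfl | hqp
    · have h1 : (Nat.card Q').Coprime q :=
        hNcop.coprime_dvd_left (card_dvd_of_le (map_subtype_le _))
      obtain ⟨j, hj⟩ := IsPGroup.iff_card.1 hQp
      rw [hj] at h1
      rcases Nat.eq_zero_or_pos j with rfl | hj0
      · have h2 : Q' = ⊥ := card_eq_one.1 (by rw [hj, pow_zero])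
        have h3 : (w : X) ∈ Q' := mem_map_of_mem N.subtype hw
        rw [h2, mem_bot] at h3
        rw [h3, one_mul, mul_one]
      · exact absurd ((Nat.coprime_pow_left_iff hj0 q q).1 h1) (by simp [Nat.coprime_self, hq.ne_one])
    have hαo : (orderOf α).Coprime q := by
      obtain ⟨j, hj⟩ := IsPGroup.iff_orderOf.1 hP ⟨c, hcP⟩
      rw [orderOf_mk] at hj
      have h1 := orderOf_map_dvd Q'.normalizerMonoidHom (⟨c, hQ hcP⟩ : normalizer (Q' : Set X))
      rw [orderOf_mk, hj] at h1
      exact Nat.Coprime.coprime_dvd_left h1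
        (Nat.Coprime.pow_left j ((Nat.coprime_primes hp.out hq).2 hqp.symm))
    have h2 := S0121.result hQp H hH hH2 hH3 hH4 α hαo (fun d hd => Subtype.ext (by
      show c * (d : X) * c⁻¹ = d
      have h := mem_centralizer_iff.1 hcC _ (mem_map_of_mem Q'.subtype hd)
      rw [show c * (d : X) = (d : X) * c from h.symm, mul_inv_cancel_right]))
    have h3 := congrArg Subtype.val (DFunLike.congr_fun h2 ⟨(w : X), mem_map_of_mem N.subtype hw⟩)
    exact (mul_inv_eq_iff_eq_mul.1 h3).symm
  have h1 : c ∈ N ⊓ P := ⟨hN hcN, hcP⟩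
  rwa [inf_eq_bot_of_coprime hPN.symm, mem_bot] at h1

end Cfsg.Agent.PLength
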