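import Cfsg.Agent.PLength.FrattiniModule
import Cfsg.Agent.PLength.AbelianNorm
import Cfsg.Agent.HallHigman.Linear
import Cfsg.Prelude.Def_LocalEven
import Mathlib.GroupTheory.SemidirectProduct

/-!
A free cyclic module in the Frattini quotient of `O_p` gives a wreath product section.
-/

set_option autoImplicit false

namespace Cfsg.Agent.PLength

open Subgroup

universe u

/-- The shift action of `Z/p` on functions on `Z/p`. -/
def wreathShift (p : ℕ) : Multiplicative (ZMod p) →* MulAut (Multiplicative (ZMod p → ZMod p)) where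
  toFun a :=
    { toFun := fun w => .ofAdd fun i => w.toAdd (i + a.toAdd)
      invFun := fun w => .ofAdd fun i => w.toAdd (i - a.toAdd)
      left_inv := fun w => Multiplicative.toAdd.injective (funext fun i => by simp)
      right_inv := fun w => Multiplicative.toAdd.injective (funext fun i => by simp)
      map_mul' := fun w w' => rfl }
  map_one' := MulEquiv.ext fun w => Multiplicative.toAdd.injective (funext fun i => by simp)
  map_mul' a b := MulEquiv.ext fun w => Multiplicative.toAdd.injective (funext fun i => by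
    simp [add_assoc])

/-- The wreath product of two cyclic groups of order `p`. -/
abbrev WreathP (p : ℕ) := Multiplicative (ZMod p → ZMod p) ⋊[wreathShift p] Multiplicative (ZMod p)

theorem wreathP_spec (p : ℕ) [hp : Fact p.Prime] :
    ∃ (B : Subgroup (WreathP p)) (t : WreathP p), B.Normal ∧ IsMulCommutative B ∧
      (∀ b ∈ B, b ^ p = 1) ∧ Nat.card B = p ^ p ∧ orderOf t = p ∧ t ∉ B ∧
      Nat.card (WreathP p) = p ^ (p + 1) ∧
      Nat.card ↥(B ⊓ Subgroup.centralizer ({t} : Set (WreathP p))) = p := by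
  let B : Subgroup (WreathP p) := (SemidirectProduct.inl (φ := wreathShift p)).range
  let t : WreathP p := SemidirectProduct.inr (.ofAdd 1)
  have hN : Nat.card (Multiplicative (ZMod p → ZMod p)) = p ^ p := by
    rw [Nat.card_congr Multiplicative.toAdd, Nat.card_pi, Finset.prod_const, Nat.card_zmod,
      Finset.card_univ, ZMod.card]
  refine ⟨B, t, ?_, ?_, ?_, ?_, ?_, ?_, ?_, ?_⟩
  · rw [show B = _ from SemidirectProduct.range_inl_eq_ker_rightHom]
    exact MonoidHom.normal_ker _
  · refine IsMulCommutative.of_setLike_mul_comm ?_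
    rintro _ ⟨a, rfl⟩ _ ⟨b, rfl⟩
    rw [← map_mul, ← map_mul, mul_comm]
  · rintro _ ⟨a, rfl⟩
    rw [← map_pow, show a ^ p = 1 from Multiplicative.toAdd.injective (funext fun i => by simp), map_one]
  · rw [← hN]
    exact (Nat.card_congr (MonoidHom.ofInjective (f := (SemidirectProduct.inl (φ := wreathShift p)))
      SemidirectProduct.inl_injective).toEquiv).symm
  · show orderOf (SemidirectProduct.inr (Multiplicative.ofAdd (1 : ZMod p)) : WreathP p) = p
    rw [orderOf_injective _ SemidirectProduct.inr_injective, orderOf_ofAdd_eq_addOrderOf,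
      ZMod.addOrderOf_one]
  · rintro ⟨a, ha⟩
    have h := congrArg (fun z : WreathP p => z.right.toAdd) ha
    simp [t] at h
  · rw [SemidirectProduct.card, hN, Nat.card_congr Multiplicative.toAdd, Nat.card_zmod, pow_succ]
  · let c : Multiplicative (ZMod p) →* WreathP p := (SemidirectProduct.inl (φ := wreathShift p)).comp
      { toFun := fun a => .ofAdd fun _ => a.toAdd
        map_one' := rfl
        map_mul' := fun _ _ => rfl }
    have hc : Function.Injective c := fun a b h =>
      congrArg (fun z : WreathP p => z.left.toAdd 0) h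
    have hrange : B ⊓ Subgroup.centralizer ({t} : Set (WreathP p)) = c.range := by
      refine le_antisymm ?_ ?_
      · rintro _ ⟨⟨w, rfl⟩, hw⟩
        have h := congrArg (fun z : WreathP p => z.left) (mem_centralizer_singleton_iff.1 hw)
        have h1 : ∀ i, w.toAdd (i + 1) = w.toAdd i := fun i => by
          have h' := congrArg (fun z : Multiplicative (ZMod p → ZMod p) => z.toAdd i) h
          simp only [t, SemidirectProduct.mul_left, SemidirectProduct.left_inl, SemidirectProduct.left_inr,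
            SemidirectProduct.right_inl, SemidirectProduct.right_inr, map_one, MulAut.one_apply, one_mul, mul_one] at h'
          exact h'.symm
        refine ⟨.ofAdd (w.toAdd 0), congrArg SemidirectProduct.inl (Multiplicative.toAdd.injective (funext fun i => ?_))⟩
        show w.toAdd 0 = w.toAdd i
        have h2 : ∀ n : ℕ, w.toAdd (n : ZMod p) = w.toAdd 0 := fun n => by
          induction n with
          | zero => simp
          | succ n ih => rw [Nat.cast_succ, h1, ih]
        rw [← ZMod.natCast_zmod_val i, h2]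
      · rintro _ ⟨a, rfl⟩
        refine ⟨⟨_, rfl⟩, mem_centralizer_singleton_iff.2 ?_⟩
        refine SemidirectProduct.ext (Multiplicative.toAdd.injective (funext fun i => ?_)) (by simp [c, t])
        simp only [c, t, MonoidHom.comp_apply, SemidirectProduct.mul_left, SemidirectProduct.left_inl,
          SemidirectProduct.left_inr, SemidirectProduct.right_inl, SemidirectProduct.right_inr, map_one,
          MulAut.one_apply, one_mul, mul_one]
        rfl
    rw [hrange, ← Nat.card_congr (MonoidHom.ofInjective hc).toEquiv, Nat.card_congr Multiplicative.toAdd,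
      Nat.card_zmod]

section coords

variable {p : ℕ} [hp : Fact p.Prime] {V : Type*} [AddCommGroup V] [Module (ZMod p) V]

theorem sum_pow_eq_sub_one_pow (T : Module.End (ZMod p) V) :
    ∑ j ∈ Finset.range p, T ^ j = (T - 1) ^ (p - 1) := by
  open Polynomial in
  have h : (∑ j ∈ Finset.range p, (X : (ZMod p)[X]) ^ j) = (X - 1) ^ (p - 1) := by
    refine mul_right_cancel₀ (b := (X - 1 : (ZMod p)[X])) (by rw [← map_one C]; exact X_sub_C_ne_zero 1) ?_
    rw [geom_sum_mul, ← pow_succ, Nat.sub_add_cancel hp.out.pos, sub_pow_char, one_pow]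
  have h1 := congrArg (Polynomial.aeval T) h
  simpa using h1

theorem coords_surjective [Finite V] {T : Module.End (ZMod p) V} (hT : T ^ p = 1)
    {φ : V →ₗ[ZMod p] ZMod p} {v : V} (h : φ ((∑ j ∈ Finset.range p, T ^ j) v) ≠ 0) :
    Function.Surjective fun (w : V) (i : ZMod p) => φ ((T ^ i.val) w) := by
  classical
  let L : V →ₗ[ZMod p] (ZMod p → ZMod p) := LinearMap.pi fun i => φ.comp (T ^ i.val)
  suffices L.range = ⊤ from LinearMap.range_eq_top.1 this
  by_contra hne
  obtain ⟨f, hf0, hf⟩ := Submodule.exists_dual_map_eq_bot_of_lt_top (lt_top_iff_ne_top.2 hne) inferInstance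
  set a : ZMod p → ZMod p := fun i => f (Pi.single i 1) with ha
  have hfy : ∀ y, f y = ∑ i, a i * y i := fun y => by
    have e : y = ∑ i, y i • Pi.single i (1 : ZMod p) := by
      funext i; simp [Finset.sum_apply, Pi.single_apply]
    conv_lhs => rw [e]
    rw [map_sum]
    simp [ha, mul_comm]
  open Polynomial in
  let P : (ZMod p)[X] := ∑ i : ZMod p, Polynomial.C (a i) * Polynomial.X ^ i.val
  have hP : ∀ w, φ (Polynomial.aeval T P w) = 0 := fun w => by
    have h1 : f (L w) = 0 := by
      rw [← Submodule.mem_bot (ZMod p), ← hf]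
      exact Submodule.mem_map_of_mem (LinearMap.mem_range_self L w)
    rw [hfy] at h1
    rw [← h1]
    simp [P, L, LinearMap.sum_apply, map_sum, Module.End.mul_apply, Algebra.algebraMap_eq_smul_one]
  have hPne : P ≠ 0 := by
    intro h0
    refine hf0 (LinearMap.ext fun y => ?_)
    rw [hfy, LinearMap.zero_apply]
    refine Finset.sum_eq_zero fun i _ => ?_
    have h1 := congrArg (fun q => Polynomial.coeff q i.val) h0
    simp only [P, Polynomial.finsetSum_coeff, Polynomial.coeff_C_mul_X_pow, Polynomial.coeff_zero] at h1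
    rw [Finset.sum_eq_single i (fun j _ hji => if_neg fun e => hji (ZMod.val_injective p e.symm)) (by simp),
      if_pos rfl] at h1
    rw [h1, zero_mul]
  obtain ⟨Q, hQ, hQd⟩ := Polynomial.exists_eq_pow_rootMultiplicity_mul_and_not_dvd P hPne 1
  set j := P.rootMultiplicity 1
  have hjp : j < p := by
    have hdv := Polynomial.natDegree_le_of_dvd (Polynomial.pow_rootMultiplicity_dvd P 1) hPne
    rw [Polynomial.natDegree_pow, Polynomial.natDegree_X_sub_C, mul_one] at hdv
    refine lt_of_le_of_lt hdv ?_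
    refine lt_of_le_of_lt (Polynomial.natDegree_sum_le_of_forall_le _ _ (n := p - 1) fun i _ => ?_) (Nat.sub_lt hp.out.pos one_pos)
    refine (Polynomial.natDegree_C_mul_X_pow_le _ _).trans ?_
    have := ZMod.val_lt i
    omega
  obtain ⟨Q', hQ'⟩ := Polynomial.X_sub_C_dvd_sub_C_eval (a := (1 : ZMod p)) (p := Q)
  have hTp : (T - 1) ^ p = 0 := by
    rw [sub_eq_add_neg]
    have hcom : Commute T (-1) := (Commute.one_right T).neg_right
    have h1 := congrArg (Polynomial.aeval T)
      (sub_pow_char (Polynomial.X : Polynomial (ZMod p)) 1)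
    simpa [hT, ← sub_eq_add_neg] using h1
  have heq : P * (Polynomial.X - 1) ^ (p - 1 - j) =
      Polynomial.C (Q.eval 1) * (Polynomial.X - 1) ^ (p - 1) + Q' * (Polynomial.X - 1) ^ p := by
    rw [map_one] at hQ hQ'
    have hQe : Q = Polynomial.C (Q.eval 1) + (Polynomial.X - 1) * Q' := by rw [← hQ']; ring
    have e1 : (Polynomial.X - 1 : Polynomial (ZMod p)) ^ j * (Polynomial.X - 1) ^ (p - 1 - j) =
        (Polynomial.X - 1) ^ (p - 1) := by rw [← pow_add]; congr 1; omega
    have e2 : (Polynomial.X - 1 : Polynomial (ZMod p)) ^ p =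
        (Polynomial.X - 1) ^ (p - 1) * (Polynomial.X - 1) := by
      rw [← pow_succ, Nat.sub_add_cancel hp.out.pos]
    conv_lhs => rw [hQ, mul_assoc, mul_comm Q, ← mul_assoc, e1, hQe]
    rw [e2]
    ring
  have h2 := hP (((T - 1) ^ (p - 1 - j)) v)
  rw [← Module.End.mul_apply] at h2
  have h3 := congrArg (fun q => φ (Polynomial.aeval T q v)) heq
  simp only [map_mul, map_add, map_pow, map_sub, map_one, Polynomial.aeval_X, Polynomial.aeval_C,
    hTp, mul_zero, add_zero] at h3
  rw [h2, Algebra.algebraMap_eq_smul_one, smul_mul_assoc, one_mul, LinearMap.smul_apply, map_smul,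
    smul_eq_mul, ← sum_pow_eq_sub_one_pow, eq_comm, mul_eq_zero] at h3
  refine h3.elim (fun h4 => hQd ?_) h
  rw [Polynomial.dvd_iff_isRoot]
  exact h4

end coords

variable {G : Type u} [Group G] [Finite G] {p : ℕ} [hp : Fact p.Prime]

/-- The wreath product section, from a vector with nonzero norm. -/
theorem exists_wreath_section {V : Type u} [AddCommGroup V] [Module (ZMod p) V] [Finite V]
    (R : Subgroup G) [R.Normal] (hR : IsPGroup p R) {π : ↥R → V} {ρ : G →* Module.End (ZMod p) V}
    (hπ : ∀ v w, π (v * w) = π v + π w) (hsurj : Function.Surjective π)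
    (hρ : ∀ g v, ρ g (π v) = π (MulAut.conjNormal g v)) (hker : ∀ r ∈ R, ρ r = 1)
    {g : G} (hg : orderOf (QuotientGroup.mk g : G ⧸ R) = p)
    (hN : (∑ j ∈ Finset.range p, ρ (g ^ j)) ≠ 0) :
    ∃ (K : Subgroup G) (f : K →* WreathP p), IsPGroup p K ∧ Function.Surjective f := by
  classical
  obtain ⟨v, φ, hφ⟩ : ∃ (v : V) (φ : V →ₗ[ZMod p] ZMod p),
      φ ((∑ j ∈ Finset.range p, ρ (g ^ j)) v) ≠ 0 := by
    by_contra hall
    push Not at hall
    exact hN (LinearMap.ext fun v => (Module.forall_dual_apply_eq_zero_iff (ZMod p) _).1 (hall v))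
  have hgp : g ^ p ∈ R := by
    rw [← QuotientGroup.eq_one_iff, QuotientGroup.mk_pow, ← hg, pow_orderOf_eq_one]
  -- adjust the lift
  obtain ⟨r, hr⟩ := hsurj ((- φ (π ⟨g ^ p, hgp⟩) * (φ ((∑ j ∈ Finset.range p, ρ (g ^ j)) v))⁻¹) • v)
  set y := (r : G) * g with hy
  have hρy : ρ y = ρ g := by rw [hy, map_mul, hker r r.2, one_mul]
  have hmky : (QuotientGroup.mk y : G ⧸ R) = QuotientGroup.mk g := by
    rw [hy, QuotientGroup.mk_mul, (QuotientGroup.eq_one_iff (r : G)).2 r.2, one_mul]
  have hyp : y ^ p ∈ R := by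
    rw [← QuotientGroup.eq_one_iff, QuotientGroup.mk_pow, hmky, ← hg, pow_orderOf_eq_one]
  set yp : R := ⟨y ^ p, hyp⟩ with hypdef
  have hφyp : φ (π yp) = 0 := by
    obtain ⟨w, hw1, hw2⟩ := exists_mul_pow hπ hρ r g p
    have h1 : yp = w * ⟨g ^ p, hgp⟩ := Subtype.ext hw1
    rw [h1, hπ, hw2, hr, map_smul, map_add, map_smul, smul_eq_mul, mul_assoc, inv_mul_cancel₀ hφ]
    ring
  set T := ρ g with hTdef
  have hT : T ^ p = 1 := by rw [hTdef, ← map_pow, hker _ hgp]
  have hmod : ∀ a b : ℤ, (a : ZMod p) = b → ρ (y ^ a) = ρ (y ^ b) := fun a b hab => by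
    obtain ⟨k, hk⟩ := (ZMod.intCast_eq_intCast_iff_dvd_sub b a p).1 hab.symm
    have h1 : y ^ a = y ^ b * (y ^ p) ^ k := by
      rw [← zpow_natCast, ← zpow_mul, ← zpow_add]; congr 1; omega
    rw [h1, map_mul, hker _ (zpow_mem hyp k), mul_one]
  let fn : ↥R →* Multiplicative (ZMod p → ZMod p) :=
    MonoidHom.mk' (fun a => .ofAdd fun i => φ (ρ (y ^ (i.val : ℤ)) (π a))) fun a b =>
      Multiplicative.toAdd.injective (funext fun i => by simp [hπ, map_add])
  let fg : Multiplicative ℤ →* Multiplicative (ZMod p) :=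
    AddMonoidHom.toMultiplicative (Int.castAddHom (ZMod p))
  have hfn : Function.Surjective fn := fun z => by
    have hφ' : φ ((∑ j ∈ Finset.range p, T ^ j) v) ≠ 0 := by simpa only [hTdef, ← map_pow] using hφ
    obtain ⟨w, hw⟩ := coords_surjective hT hφ' z.toAdd
    obtain ⟨a, rfl⟩ := hsurj w
    refine ⟨a, Multiplicative.toAdd.injective (funext fun i => ?_)⟩
    rw [← congrFun hw i]
    show φ (ρ (y ^ (i.val : ℤ)) (π a)) = φ ((T ^ i.val) (π a))
    rw [zpow_natCast, map_pow, hρy]
  let conjR : Multiplicative ℤ →* MulAut ↥R := MulAut.conjNormal.comp (zpowersHom G y)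
  let ψ : ↥R ⋊[conjR] Multiplicative ℤ →* G :=
    SemidirectProduct.lift R.subtype (zpowersHom G y) fun n =>
      MonoidHom.ext fun a => by
        show ((MulAut.conjNormal (y ^ n.toAdd) a : R) : G) = MulAut.conj (y ^ n.toAdd) (a : G)
        rw [MulAut.conjNormal_apply, MulAut.conj_apply]
  let χ : ↥R ⋊[conjR] Multiplicative ℤ →* WreathP p :=
    SemidirectProduct.map fn fg fun n => MonoidHom.ext fun a =>
      Multiplicative.toAdd.injective (funext fun i => by
        show φ (ρ (y ^ (i.val : ℤ)) (π (MulAut.conjNormal (y ^ n.toAdd) a))) =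
          φ (ρ (y ^ ((i + ((n.toAdd : ℤ) : ZMod p)).val : ℤ)) (π a))
        rw [← hρ, ← Module.End.mul_apply, ← map_mul, ← zpow_add,
          hmod ((i.val : ℤ) + n.toAdd) ((i + ((n.toAdd : ℤ) : ZMod p)).val : ℤ) (by simp)])
  have hχ : Function.Surjective χ := fun z => by
    obtain ⟨a, ha⟩ := hfn z.left
    obtain ⟨n, hn⟩ := ZMod.intCast_surjective z.right.toAdd
    exact ⟨⟨a, .ofAdd n⟩, SemidirectProduct.ext ha (congrArg Multiplicative.ofAdd hn)⟩
  have hψχ : ψ.ker ≤ χ.ker := fun z hz => by
    have h1 : (z.left : G) * y ^ z.right.toAdd = 1 := hz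
    have h2 : y ^ z.right.toAdd ∈ R := by
      rw [eq_inv_of_mul_eq_one_right h1]
      exact inv_mem z.left.2
    have h3 : (p : ℤ) ∣ z.right.toAdd := by
      rw [← hg, ← hmky]
      refine orderOf_dvd_iff_zpow_eq_one.2 ?_
      rw [← QuotientGroup.mk_zpow]
      exact (QuotientGroup.eq_one_iff _).2 h2
    obtain ⟨k, hk⟩ := h3
    have h4 : z.left = (yp ^ k)⁻¹ := Subtype.ext (by
      rw [eq_inv_of_mul_eq_one_left h1, hk, InvMemClass.coe_inv, SubgroupClass.coe_zpow, hypdef,
        zpow_mul, zpow_natCast])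
    have h5 : fn yp = 1 := Multiplicative.toAdd.injective (funext fun i => by
      show φ (ρ (y ^ (i.val : ℤ)) (π yp)) = 0
      have e : MulAut.conjNormal (y ^ (i.val : ℤ)) yp = yp := Subtype.ext (by
        rw [MulAut.conjNormal_apply]
        exact mul_inv_eq_of_eq_mul ((Commute.refl y).zpow_left _ |>.pow_right p))
      rw [hρ, e, hφyp])
    refine MonoidHom.mem_ker.2 (SemidirectProduct.ext ?_ ?_)
    · show fn z.left = 1
      rw [h4, map_inv, map_zpow, h5, one_zpow, inv_one]
    · show fg z.right = 1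
      refine Multiplicative.toAdd.injective ?_
      show ((z.right.toAdd : ℤ) : ZMod p) = 0
      rw [hk]; simp
  refine ⟨ψ.range, MonoidHom.liftOfSurjective ψ.rangeRestrict ψ.rangeRestrict_surjective
    ⟨χ, by rwa [MonoidHom.ker_rangeRestrict]⟩, ?_, fun w => ?_⟩
  · have h1 : IsPGroup p ((zpowers (QuotientGroup.mk g : G ⧸ R)).comap (QuotientGroup.mk' R)) :=
      IsPGroup.comap_of_ker_isPGroup (IsPGroup.of_card (n := 1) (by rw [Nat.card_zpowers, hg, pow_one])) _
        (by rwa [QuotientGroup.ker_mk'])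
    refine h1.to_le ?_
    rintro _ ⟨z, rfl⟩
    show QuotientGroup.mk ((z.left : G) * y ^ z.right.toAdd) ∈ zpowers (QuotientGroup.mk g : G ⧸ R)
    rw [QuotientGroup.mk_mul, (QuotientGroup.eq_one_iff (z.left : G)).2 z.left.2, one_mul,
      QuotientGroup.mk_zpow, hmky]
    exact zpow_mem_zpowers _ _
  · obtain ⟨z, rfl⟩ := hχ w
    exact ⟨ψ.rangeRestrict z, MonoidHom.liftOfRightInverse_comp_apply _ _ _ _ _⟩

/-- Surjections from a subgroup inside the image of a `p`-group give sections. -/
theorem involves_of_image {P : Type*} [Group P] {H : Type*} [Group H] {W : Type*} [Group W]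
    (f : P →* H) {K : Subgroup H} (hK : K ≤ f.range) (φ : K →* W) (hφ : Function.Surjective φ) :
    Cfsg.Involves W P := by
  let L := K.comap f
  let χ : L →* W := φ.comp (f.subgroupComap K)
  have hχ : Function.Surjective χ :=
    hφ.comp ((fun k => by
      obtain ⟨x, hx⟩ := hK k.2
      exact ⟨⟨x, show f x ∈ K from hx.symm ▸ k.2⟩, Subtype.ext hx⟩))
  have e : (χ.ker.map L.subtype).subgroupOf L = χ.ker := by
    rw [subgroupOf, comap_map_eq_self_of_injective L.subtype_injective]
  refine ⟨L, χ.ker.map L.subtype, by rw [e]; infer_instance, ⟨?_⟩⟩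
  haveI : ((χ.ker.map L.subtype).subgroupOf L).Normal := by rw [e]; infer_instance
  exact (QuotientGroup.quotientMulEquivOfEq e).trans (QuotientGroup.quotientKerEquivOfSurjective χ hχ)

theorem pLengthLE_one_of_no_wreath (hp2 : p ≠ 2) (hnf : ¬ ∃ k : ℕ, p = 2 ^ k + 1)
    (hG : Cfsg.IsPSolvable p G) (P : Sylow p G) (hwr : ¬ Cfsg.Involves (WreathP p) ↥(P : Subgroup G)) :
    Cfsg.PLengthLE p 1 G := by
  classical
  set U := Cfsg.pPrimeCore p G with hU
  have hmk : Function.Surjective (QuotientGroup.mk' U) := QuotientGroup.mk'_surjective U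
  have hG₁ := Layer.isPSolvable_of_surjective hG hmk
  have hO₁ : Cfsg.pPrimeCore p (G ⧸ U) = ⊥ := Core.pPrimeCore_quotient_eq_bot
  set R := Cfsg.pCore p (G ⧸ U) with hR
  by_cases hX : (Nat.card ((G ⧸ U) ⧸ R)).Coprime p
  · have h1 : Cfsg.PLengthLE p (1 + 0) (G ⧸ U) :=
      of_extension R (pLengthLE_one_of_isPGroup Core.pCore_isPGroup) (pLengthLE_zero_of_coprime hX)
    exact of_extension U (pLengthLE_zero_of_coprime Core.coprime_card_pPrimeCore) h1
  exfalso
  have hdvd : p ∣ Nat.card ((G ⧸ U) ⧸ R) := by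
    by_contra h
    exact hX (hp.out.coprime_iff_not_dvd.2 h).symm
  obtain ⟨x, hx⟩ := exists_prime_orderOf_dvd_card' p hdvd
  obtain ⟨g, rfl⟩ := QuotientGroup.mk_surjective x
  obtain ⟨V, i1, i2, i3, π, ρ, ρ', hπ, hsurj, hρ, hρ', hinj⟩ := exists_frattini_module hG₁ hO₁
  have hker : ∀ r ∈ R, ρ r = 1 := fun r hr => by
    rw [← hρ', (QuotientGroup.eq_one_iff r).2 hr, map_one]
  have hN : (∑ j ∈ Finset.range p, ρ (g ^ j)) ≠ 0 := by
    intro h0
    have hs : (ρ' (QuotientGroup.mk g) - 1) ^ (p - 1) = 0 := by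
      rw [← sum_pow_eq_sub_one_pow, ← h0]
      exact Finset.sum_congr rfl fun j _ => by rw [hρ', map_pow]
    rcases HallHigman.theoremB (Layer.isPSolvable_of_surjective hG₁ (QuotientGroup.mk'_surjective R))
        Core.pCore_quotient_eq_bot ρ' hinj le_rfl (by rw [pow_one]; exact hx) hs with
      h | ⟨n₀, q, m, h1, h2, hq, hm, hpq, -, -⟩
    · have := hp.out.pos
      rw [pow_one] at h
      omega
    · obtain rfl : n₀ = 1 := by omega
      rw [pow_one] at hpq
      rcases hq.eq_two_or_odd' with rfl | hodd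
      · exact hnf ⟨m, by have := hp.out.pos; omega⟩
      · have h3 : Odd (p - 1) := hpq ▸ hodd.pow
        exact (Nat.not_even_iff_odd.2 h3) (hp.out.even_sub_one hp2)
  obtain ⟨K, φ, hKp, hφ⟩ := exists_wreath_section R Core.pCore_isPGroup hπ hsurj hρ hker hx hN
  obtain ⟨T, hT⟩ := exists_sylow_map hmk hKp
  obtain ⟨c, hc⟩ := MulAction.exists_smul_eq G T P
  let e : ↥(P : Subgroup G) →* G ⧸ U :=
    (QuotientGroup.mk' U).comp ((MulAut.conj c⁻¹).toMonoidHom.comp (P : Subgroup G).subtype)
  refine hwr (involves_of_image e (fun k hk => ?_) φ hφ)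
  obtain ⟨t, ht, rfl⟩ := hT hk
  have htP : c * t * c⁻¹ ∈ (P : Subgroup G) := by
    rw [← hc, Sylow.coe_subgroup_smul]
    exact ⟨t, ht, rfl⟩
  refine ⟨⟨c * t * c⁻¹, htP⟩, ?_⟩
  simp [e, mul_assoc]

end Cfsg.Agent.PLength
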